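import Cfsg.Agent.Lib.Helper12.TCG.SuzQe65520.Perm
import Cfsg.Agent.Lib.Helper12.TCG.RhoOnly

/-! the permutation representation for SuzQe65520 (generated, helper12) -/

set_option autoImplicit false
set_option maxRecDepth 100000

namespace Cfsg.Agent.Lib.Helper12.TCG.SuzQe65520

open Cfsg.Agent.Lib.Helper12.TC Cfsg.Agent.Lib.Helper12.TCG Cfsg.Agent.Lib.Helper12.SuzM Cfsg.Agent.Lib.Helper12.SuzM.Pres5

theorem hN0 : 0 < cN := by decide

/-- the permutation representation given by the table -/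
theorem mainRho : ∃ ρ : Pres5.Grp →* Equiv.Perm (Fin cN),
    ∀ x < 10, ∀ i : Fin cN, ((ρ (Pres5.v x) i : Fin cN) : ℕ) = TT x i :=
  rho_only Pres5.v 10 Pres5.cIV (by decide) Pres5.hiv Pres5.baseL Pres5.hlet TT cN hperm
    (fun f => Pres5.hlift f) hrels

/-- the permutation representation -/
noncomputable def rho : Pres5.Grp →* Equiv.Perm (Fin cN) := mainRho.choose

theorem rho_gen : ∀ x < 10, ∀ i : Fin cN, ((rho (Pres5.v x) i : Fin cN) : ℕ) = TT x i :=
  mainRho.choose_spec

end Cfsg.Agent.Lib.Helper12.TCG.SuzQe65520
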