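import Cfsg.Agent.Lib.Helper12.TCG.SuzQe65520.Rel0
import Cfsg.Agent.Lib.Helper12.TCG.SuzQe65520.Rel1
import Cfsg.Agent.Lib.Helper12.TCG.SuzQe65520.Rel2
import Cfsg.Agent.Lib.Helper12.TCG.SuzQe65520.Rel3
import Cfsg.Agent.Lib.Helper12.TCG.SuzQe65520.Rel4
import Cfsg.Agent.Lib.Helper12.TCG.SuzQe65520.Rel5
import Cfsg.Agent.Lib.Helper12.TCG.SuzQe65520.Rel6
import Cfsg.Agent.Lib.Helper12.TCG.SuzQe65520.Rel7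
import Cfsg.Agent.Lib.Helper12.TCG.SuzQe65520.Rel8
import Cfsg.Agent.Lib.Helper12.TCG.SuzQe65520.Rel9
import Cfsg.Agent.Lib.Helper12.TCG.SuzQe65520.Rel10
import Cfsg.Agent.Lib.Helper12.TCG.SuzQe65520.Rel11
import Cfsg.Agent.Lib.Helper12.TCG.SuzQe65520.Rel12
import Cfsg.Agent.Lib.Helper12.TCG.SuzQe65520.Rel13
import Cfsg.Agent.Lib.Helper12.TCG.SuzQe65520.Rel14
import Cfsg.Agent.Lib.Helper12.TCG.SuzQe65520.Rel15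
import Cfsg.Agent.Lib.Helper12.TCG.SuzQe65520.Rel16
import Cfsg.Agent.Lib.Helper12.TCG.SuzQe65520.Rel17
import Cfsg.Agent.Lib.Helper12.TCG.SuzQe65520.Rel18
import Cfsg.Agent.Lib.Helper12.TCG.SuzQe65520.Rel19
import Cfsg.Agent.Lib.Helper12.TCG.SuzQe65520.Rel20
import Cfsg.Agent.Lib.Helper12.TCG.SuzQe65520.Rel21
import Cfsg.Agent.Lib.Helper12.TCG.SuzQe65520.Rel22
import Cfsg.Agent.Lib.Helper12.TCG.SuzQe65520.Rel23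
import Cfsg.Agent.Lib.Helper12.TCG.SuzQe65520.Rel24
import Cfsg.Agent.Lib.Helper12.TCG.SuzQe65520.Rel25
import Cfsg.Agent.Lib.Helper12.TCG.SuzQe65520.Rel26
import Cfsg.Agent.Lib.Helper12.TCG.SuzQe65520.Rel27
import Cfsg.Agent.Lib.Helper12.TCG.SuzQe65520.Rel28
import Cfsg.Agent.Lib.Helper12.TCG.SuzQe65520.Rel29
import Cfsg.Agent.Lib.Helper12.TCG.SuzQe65520.Rel30
import Cfsg.Agent.Lib.Helper12.TCG.SuzQe65520.Rel31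
import Cfsg.Agent.Lib.Helper12.TCG.SuzQe65520.Rel32
import Cfsg.Agent.Lib.Helper12.TCG.SuzQe65520.Rel33
import Cfsg.Agent.Lib.Helper12.TCG.SuzQe65520.Rel34
import Cfsg.Agent.Lib.Helper12.TCG.SuzQe65520.Rel35
import Cfsg.Agent.Lib.Helper12.TCG.SuzQe65520.Rel36
import Cfsg.Agent.Lib.Helper12.TCG.SuzQe65520.Rel37
import Cfsg.Agent.Lib.Helper12.TCG.SuzQe65520.Rel38
import Cfsg.Agent.Lib.Helper12.TCG.SuzQe65520.Rel39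
import Cfsg.Agent.Lib.Helper12.TCG.SuzQe65520.Rel40
import Cfsg.Agent.Lib.Helper12.TCG.SuzQe65520.Rel41
import Cfsg.Agent.Lib.Helper12.TCG.SuzQe65520.Rel42
import Cfsg.Agent.Lib.Helper12.TCG.SuzQe65520.Rel43
import Cfsg.Agent.Lib.Helper12.TCG.SuzQe65520.Rel44
import Cfsg.Agent.Lib.Helper12.TCG.SuzQe65520.Rel45
import Cfsg.Agent.Lib.Helper12.TCG.SuzQe65520.Rel46
import Cfsg.Agent.Lib.Helper12.TCG.SuzQe65520.Rel47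
import Cfsg.Agent.Lib.Helper12.TCG.SuzQe65520.Rel48
import Cfsg.Agent.Lib.Helper12.TCG.SuzQe65520.Rel49
import Cfsg.Agent.Lib.Helper12.TCG.SuzQe65520.Rel50
import Cfsg.Agent.Lib.Helper12.TCG.SuzQe65520.Rel51
import Cfsg.Agent.Lib.Helper12.TCG.SuzQe65520.Rel52
import Cfsg.Agent.Lib.Helper12.TCG.SuzQe65520.Rel53
import Cfsg.Agent.Lib.Helper12.TCG.SuzQe65520.Rel54
import Cfsg.Agent.Lib.Helper12.TCG.SuzQe65520.Rel55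
import Cfsg.Agent.Lib.Helper12.TCG.SuzQe65520.Rel56
import Cfsg.Agent.Lib.Helper12.TCG.SuzQe65520.Rel57
import Cfsg.Agent.Lib.Helper12.TCG.SuzQe65520.Rel58
import Cfsg.Agent.Lib.Helper12.TCG.SuzQe65520.Rel59
import Cfsg.Agent.Lib.Helper12.TCG.SuzQe65520.Rel60
import Cfsg.Agent.Lib.Helper12.TCG.SuzQe65520.Rel61
import Cfsg.Agent.Lib.Helper12.TCG.SuzQe65520.Rel62
import Cfsg.Agent.Lib.Helper12.TCG.SuzQe65520.Rel63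
import Cfsg.Agent.Lib.Helper12.TCG.SuzQe65520.Rel64
import Cfsg.Agent.Lib.Helper12.TCG.SuzQe65520.Rel65
import Cfsg.Agent.Lib.Helper12.TCG.SuzQe65520.Rel66
import Cfsg.Agent.Lib.Helper12.TCG.SuzQe65520.Rel67
import Cfsg.Agent.Lib.Helper12.TCG.SuzQe65520.Rel68
import Cfsg.Agent.Lib.Helper12.TCG.SuzQe65520.Rel69
import Cfsg.Agent.Lib.Helper12.TCG.SuzQe65520.Rel70
import Cfsg.Agent.Lib.Helper12.TCG.SuzQe65520.Rel71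
import Cfsg.Agent.Lib.Helper12.SuzM.Pres5

/-! the permutation representation for SuzQe65520 (generated, helper12) -/

set_option autoImplicit false
set_option maxRecDepth 100000
set_option linter.unusedSimpArgs false
set_option Elab.async false

namespace Cfsg.Agent.Lib.Helper12.TCG.SuzQe65520

open Cfsg.Agent.Lib.Helper12.TC Cfsg.Agent.Lib.Helper12.TCG Cfsg.Agent.Lib.Helper12.SuzM.Pres5

theorem htN : tN = cN := rfl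

theorem hperm0 : permOneG 18364758479815910145 TT 0 tN = true :=
  permOneG_of_OK (permOK_step hperm0_3 rfl
    (permOK_step hperm0_2 rfl
    (permOK_step hperm0_1 rfl
    (permOK_step hperm0_0 rfl
    (permOK_start 18364758479815910145 TT 0 tN)))))

theorem hperm1 : permOneG 18364758479815910145 TT 1 tN = true :=
  permOneG_of_OK (permOK_step hperm1_3 rfl
    (permOK_step hperm1_2 rfl
    (permOK_step hperm1_1 rfl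
    (permOK_step hperm1_0 rfl
    (permOK_start 18364758479815910145 TT 1 tN)))))

theorem hperm2 : permOneG 18364758479815910145 TT 2 tN = true :=
  permOneG_of_OK (permOK_step hperm2_3 rfl
    (permOK_step hperm2_2 rfl
    (permOK_step hperm2_1 rfl
    (permOK_step hperm2_0 rfl
    (permOK_start 18364758479815910145 TT 2 tN)))))

theorem hperm3 : permOneG 18364758479815910145 TT 3 tN = true :=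
  permOneG_of_OK (permOK_step hperm3_3 rfl
    (permOK_step hperm3_2 rfl
    (permOK_step hperm3_1 rfl
    (permOK_step hperm3_0 rfl
    (permOK_start 18364758479815910145 TT 3 tN)))))

theorem hperm4 : permOneG 18364758479815910145 TT 4 tN = true :=
  permOneG_of_OK (permOK_step hperm4_3 rfl
    (permOK_step hperm4_2 rfl
    (permOK_step hperm4_1 rfl
    (permOK_step hperm4_0 rfl
    (permOK_start 18364758479815910145 TT 4 tN)))))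

theorem hperm5 : permOneG 18364758479815910145 TT 5 tN = true :=
  permOneG_of_OK (permOK_step hperm5_3 rfl
    (permOK_step hperm5_2 rfl
    (permOK_step hperm5_1 rfl
    (permOK_step hperm5_0 rfl
    (permOK_start 18364758479815910145 TT 5 tN)))))

theorem hperm6 : permOneG 18364758479815910145 TT 6 tN = true :=
  permOneG_of_OK (permOK_step hperm6_3 rfl
    (permOK_step hperm6_2 rfl
    (permOK_step hperm6_1 rfl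
    (permOK_step hperm6_0 rfl
    (permOK_start 18364758479815910145 TT 6 tN)))))

theorem hperm7 : permOneG 18364758479815910145 TT 7 tN = true :=
  permOneG_of_OK (permOK_step hperm7_3 rfl
    (permOK_step hperm7_2 rfl
    (permOK_step hperm7_1 rfl
    (permOK_step hperm7_0 rfl
    (permOK_start 18364758479815910145 TT 7 tN)))))

theorem hperm8 : permOneG 18364758479815910145 TT 8 tN = true :=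
  permOneG_of_OK (permOK_step hperm8_3 rfl
    (permOK_step hperm8_2 rfl
    (permOK_step hperm8_1 rfl
    (permOK_step hperm8_0 rfl
    (permOK_start 18364758479815910145 TT 8 tN)))))

theorem hperm9 : permOneG 18364758479815910145 TT 9 tN = true :=
  permOneG_of_OK (permOK_step hperm9_3 rfl
    (permOK_step hperm9_2 rfl
    (permOK_step hperm9_1 rfl
    (permOK_step hperm9_0 rfl
    (permOK_start 18364758479815910145 TT 9 tN)))))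

theorem hperm : permG cIV TT 10 cN = true := by
  refine permG_of_ones (fun x hx => ?_)
  interval_cases x
  · exact hperm0
  · exact hperm1
  · exact hperm2
  · exact hperm3
  · exact hperm4
  · exact hperm5
  · exact hperm6
  · exact hperm7
  · exact hperm8
  · exact hperm9

/-- words as powers -/
def specs : List (List ℕ × ℕ) :=
  [([0], 7),
   ([2], 7),
   ([4], 7),
   ([6], 7),
   ([8], 7),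
   ([0, 0, 3, 0, 3, 0, 3, 1, 2, 0, 2, 1, 2, 1, 2, 1, 1, 3], 1),
   ([3, 0, 0, 3, 3, 0, 0, 3, 0, 2, 1, 1, 2, 2, 1, 1, 2, 1], 1),
   ([2, 1, 1, 2, 2, 1, 1, 2, 0, 3, 0, 0, 3, 3, 0, 0, 3, 1], 1),
   ([2, 0, 3, 0, 3, 1, 2, 2, 0, 3, 3, 0, 2, 1, 2, 1, 3, 1], 1),
   ([3, 1, 2, 1, 2, 1, 2, 2, 0, 3, 3, 0, 3, 0, 3, 0, 2, 1], 1),
   ([0, 2, 0, 0, 3, 1, 1, 1, 2, 0, 0, 0, 2, 1, 1, 3, 1, 3, 3], 1),
   ([1, 2, 0, 0, 0, 2, 1, 1, 2, 0, 0, 3, 1, 1, 1, 3, 0, 3, 3], 1),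
   ([0, 3, 1, 1, 3, 0, 3, 1, 2, 0, 2, 1, 2, 0, 0, 2, 1, 3, 3], 1),
   ([1, 3, 1, 1, 2, 0, 0, 0, 2, 1, 1, 1, 3, 0, 0, 2, 0, 3, 3], 1),
   ([0, 3, 1, 1, 1, 3, 0, 0, 2, 1, 1, 2, 0, 0, 0, 2, 1, 3, 3], 1),
   ([1, 2, 0, 0, 0, 3, 0, 0, 2, 1, 1, 2, 1, 1, 1, 3, 0, 3, 3], 1),
   ([2, 1, 3, 3, 1, 2, 1, 3, 0, 2, 0, 3, 0, 2, 2, 0, 3, 1, 1], 1),
   ([3, 0, 2, 2, 2, 1, 2, 2, 0, 3, 3, 0, 3, 3, 3, 1, 2, 1, 1], 1),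
   ([3, 1, 3, 3, 0, 2, 2, 2, 0, 3, 3, 3, 1, 2, 2, 0, 2, 1, 1], 1),
   ([1, 3, 0, 3, 1, 1, 3, 0, 2, 1, 2, 0, 0, 2, 1, 2, 0, 2, 2, 2], 1),
   ([1, 2, 2, 1, 1, 2, 0, 3, 0, 2, 1, 2, 1, 3, 0, 0, 3, 3, 0, 3], 1),
   ([2, 2, 2, 0, 3, 3, 1, 3, 0, 2, 0, 2, 2, 1, 3, 3, 3, 0, 0, 0], 1),
   ([3, 0, 2, 1, 1, 2, 2, 1, 3, 0, 2, 0, 3, 3, 0, 0, 3, 1, 2, 1], 1),
   ([2, 1, 1, 2, 2, 1, 3, 0, 3, 0, 2, 1, 2, 0, 3, 3, 0, 0, 3, 1], 1),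
   ([2, 2, 1, 1, 2, 0, 3, 0, 3, 0, 2, 1, 2, 1, 3, 0, 0, 3, 3, 1], 1),
   ([3, 1, 2, 2, 1, 1, 2, 0, 3, 0, 2, 1, 3, 0, 0, 3, 3, 0, 2, 1], 1),
   ([2, 2, 1, 1, 3, 3, 3, 3, 3, 0, 2, 2, 2, 2, 2, 0, 0, 3, 3, 1], 1),
   ([2, 0, 3, 3, 0, 0, 3, 1, 2, 0, 3, 0, 2, 1, 1, 2, 2, 1, 3, 1], 1),
   ([3, 1, 2, 1, 3, 3, 1, 2, 0, 3, 0, 2, 2, 0, 3, 0, 2, 0, 0, 0], 1),
   ([2, 2, 1, 3, 3, 3, 1, 2, 0, 3, 0, 2, 2, 2, 0, 3, 3, 0, 0, 0], 1),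
   ([3, 1, 3, 1, 3, 1, 3, 1, 4, 0, 2, 0, 2, 0, 2, 0, 2, 5], 1),
   ([1, 2, 0, 0, 5, 1, 5, 1, 4, 0, 4, 0, 4, 1, 1, 3, 0, 3], 1),
   ([1, 1, 2, 4, 0, 4, 0, 4, 1, 5, 1, 5, 3, 0, 0, 2, 2, 2], 1),
   ([0, 0, 4, 1, 4, 0, 2, 0, 3, 1, 5, 0, 5, 1, 1, 4, 4, 4], 1),
   ([1, 1, 2, 2, 1, 1, 2, 2, 4, 3, 3, 0, 0, 3, 3, 0, 0, 5], 1),
   ([3, 1, 2, 1, 2, 1, 2, 2, 4, 3, 3, 0, 3, 0, 3, 0, 2, 5], 1),
   ([1, 4, 0, 4, 2, 2, 2, 2, 4, 3, 3, 3, 3, 5, 1, 5, 0, 4], 1),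
   ([2, 0, 4, 1, 1, 1, 5, 2, 4, 0, 0, 0, 5, 1, 3, 1, 1, 1], 1),
   ([1, 1, 5, 1, 1, 4, 0, 5, 2, 4, 1, 5, 0, 0, 4, 0, 0, 5], 1),
   ([0, 4, 0, 4, 0, 2, 1, 1, 2, 0, 0, 3, 1, 5, 1, 5, 1, 5, 5], 1),
   ([3, 3, 4, 0, 5, 2, 2, 1, 2, 0, 3, 3, 4, 1, 5, 2, 2, 0, 0], 1),
   ([0, 4, 0, 4, 0, 3, 0, 0, 2, 1, 1, 2, 1, 5, 1, 5, 1, 5, 5], 1),
   ([0, 2, 1, 5, 1, 5, 0, 0, 2, 1, 1, 4, 0, 4, 0, 3, 1, 5, 5], 1),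
   ([0, 3, 4, 1, 2, 0, 3, 4, 1, 2, 0, 5, 2, 1, 3, 0, 5, 2, 1, 3], 1),
   ([4, 2, 1, 1, 2, 5, 0, 0, 0, 2, 1, 1, 1, 4, 3, 0, 0, 3, 5, 1], 1),
   ([0, 4, 1, 3, 4, 2, 0, 4, 0, 2, 1, 5, 1, 3, 5, 2, 0, 5, 1, 5], 1),
   ([1, 3, 4, 1, 3, 5, 0, 4, 0, 2, 1, 5, 1, 4, 2, 0, 5, 2, 0, 3], 1),
   ([5, 2, 1, 3, 0, 5, 2, 1, 3, 0, 2, 0, 3, 4, 1, 2, 0, 3, 4, 1], 1),
   ([1, 2, 2, 4, 0, 3, 3, 1, 2, 0, 3, 0, 2, 2, 1, 5, 3, 3, 0, 2], 1),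
   ([5, 2, 1, 3, 4, 3, 3, 1, 5, 0, 4, 0, 2, 2, 5, 2, 0, 3, 4, 0], 1),
   ([5, 1, 5, 1, 5, 1, 5, 1, 5, 0, 4, 0, 4, 0, 4, 0, 4, 0, 4, 1], 1),
   ([0, 4, 3, 0, 3, 1, 2, 0, 5, 0, 4, 1, 3, 0, 2, 1, 2, 5, 1, 3], 1),
   ([1, 1, 1, 4, 3, 0, 0, 3, 5, 0, 4, 2, 1, 1, 2, 5, 0, 0, 0, 3], 1),
   ([4, 4, 0, 4, 7, 5, 1, 1, 4, 0, 0, 4, 6, 5, 1, 5, 5, 2], 1),
   ([0, 4, 7, 0, 5, 6, 1, 1, 6, 0, 0, 7, 4, 1, 6, 5, 1, 7], 1),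
   ([0, 0, 3, 0, 3, 0, 3, 1, 6, 0, 2, 1, 2, 1, 2, 1, 1, 7], 1),
   ([7, 2, 5, 6, 3, 0, 3, 1, 2, 0, 2, 1, 2, 7, 4, 3, 6, 1], 1),
   ([0, 6, 1, 4, 7, 0, 5, 1, 4, 0, 4, 1, 6, 5, 0, 7, 1, 5], 1),
   ([2, 4, 0, 7, 2, 1, 6, 0, 2, 1, 7, 0, 3, 6, 1, 5, 3, 1], 1),
   ([1, 1, 4, 7, 0, 5, 6, 0, 4, 1, 7, 4, 1, 6, 5, 0, 0, 5], 1),
   ([2, 4, 7, 0, 5, 6, 1, 3, 6, 2, 0, 7, 4, 1, 6, 5, 3, 7], 1),
   ([6, 2, 0, 2, 0, 7, 2, 2, 0, 3, 3, 6, 1, 3, 1, 3, 7, 3], 1),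
   ([3, 0, 5, 6, 1, 4, 7, 2, 0, 3, 6, 5, 0, 7, 4, 1, 2, 1], 1),
   ([3, 0, 5, 6, 1, 4, 7, 2, 4, 3, 6, 5, 0, 7, 4, 1, 2, 5], 1),
   ([3, 5, 0, 7, 4, 1, 6, 2, 6, 3, 7, 0, 5, 6, 1, 4, 2, 7], 1),
   ([3, 1, 4, 7, 0, 5, 6, 2, 0, 3, 7, 4, 1, 6, 5, 0, 2, 1], 1),
   ([3, 1, 4, 7, 0, 5, 6, 2, 4, 3, 7, 4, 1, 6, 5, 0, 2, 5], 1),
   ([3, 1, 4, 7, 0, 5, 6, 2, 6, 3, 7, 4, 1, 6, 5, 0, 2, 7], 1),
   ([4, 6, 5, 0, 7, 4, 1, 5, 6, 4, 0, 5, 6, 1, 4, 7, 5, 7], 1),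
   ([4, 3, 0, 3, 0, 3, 0, 5, 6, 4, 1, 2, 1, 2, 1, 2, 5, 7], 1),
   ([4, 7, 4, 1, 6, 5, 0, 5, 0, 4, 1, 4, 7, 0, 5, 6, 5, 1], 1),
   ([4, 7, 4, 1, 6, 5, 0, 5, 6, 4, 1, 4, 7, 0, 5, 6, 5, 7], 1),
   ([0, 6, 0, 2, 6, 4, 4, 1, 4, 0, 5, 5, 7, 3, 1, 7, 1, 2, 2], 1),
   ([6, 4, 1, 6, 4, 7, 1, 5, 6, 4, 0, 6, 5, 7, 0, 5, 7, 5, 5], 1),
   ([5, 0, 6, 2, 2, 4, 2, 5, 2, 4, 3, 5, 3, 3, 7, 1, 4, 3, 3], 1),
   ([2, 0, 5, 5, 6, 1, 3, 7, 0, 2, 1, 6, 2, 0, 7, 4, 4, 1, 3, 1], 1),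
   ([2, 1, 6, 0, 7, 2, 1, 6, 0, 6, 1, 7, 0, 3, 6, 1, 7, 0, 3, 7], 1),
   ([2, 4, 7, 2, 6, 2, 4, 7, 2, 6, 3, 6, 5, 3, 7, 3, 6, 5, 3, 7], 1),
   ([6, 5, 2, 0, 2, 2, 1, 6, 2, 4, 3, 7, 0, 3, 3, 1, 3, 4, 7, 0], 1),
   ([2, 2, 1, 7, 0, 3, 6, 1, 5, 2, 4, 0, 7, 2, 1, 6, 0, 3, 3, 1], 1),
   ([2, 1, 6, 2, 1, 1, 2, 4, 6, 0, 7, 5, 3, 0, 0, 3, 7, 0, 3, 5], 1),
   ([9, 0, 5, 8, 1, 4, 0, 9, 4, 1, 8, 5], 1),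
   ([8, 1, 4, 9, 0, 4, 1, 8, 5, 0, 9, 5], 1),
   ([9, 4, 1, 8, 5, 0, 4, 9, 0, 5, 8, 1], 1),
   ([0, 5, 8, 1, 4, 8, 5, 0, 9, 4, 1, 9], 1),
   ([8, 5, 0, 9, 4, 0, 5, 8, 1, 4, 9, 1], 1),
   ([6, 9, 6, 9, 6, 8, 7, 8, 7, 8, 7, 9], 1),
   ([8, 7, 8, 7, 8, 7, 4, 6, 9, 6, 9, 6, 9, 5], 1),
   ([5, 0, 7, 4, 1, 6, 8, 7, 0, 5, 6, 1, 4, 9], 1),
   ([4, 1, 8, 5, 0, 9, 6, 8, 1, 4, 9, 0, 5, 7], 1),
   ([9, 6, 9, 0, 5, 5, 1, 2, 0, 4, 4, 1, 8, 7, 8, 5, 5], 1),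
   ([8, 7, 2, 1, 6, 9, 0, 3, 4, 2, 1, 8, 7, 0, 3, 6, 9, 5], 1),
   ([0, 0, 3, 3, 0, 0, 3, 3, 8, 2, 2, 1, 1, 2, 2, 1, 1, 9], 1),
   ([7, 8, 2, 4, 9, 6, 5, 3, 0, 2, 4, 7, 8, 5, 3, 9, 6, 1], 1),
   ([7, 8, 2, 4, 9, 6, 5, 3, 4, 2, 4, 7, 8, 5, 3, 9, 6, 5], 1),
   ([7, 8, 2, 4, 9, 6, 5, 3, 8, 2, 4, 7, 8, 5, 3, 9, 6, 9], 1),
   ([5, 9, 6, 8, 8, 2, 4, 3, 8, 2, 5, 3, 9, 9, 7, 8, 4, 3], 1),
   ([2, 1, 6, 5, 0, 7, 4, 3, 8, 2, 5, 6, 1, 4, 7, 0, 3, 9], 1),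
   ([6, 9, 2, 5, 8, 7, 4, 3, 8, 2, 5, 6, 9, 4, 3, 8, 7, 9], 1),
   ([8, 7, 2, 5, 6, 9, 4, 3, 0, 2, 5, 8, 7, 4, 3, 6, 9, 1], 1),
   ([8, 7, 2, 5, 6, 9, 4, 3, 4, 2, 5, 8, 7, 4, 3, 6, 9, 5], 1),
   ([2, 0, 5, 6, 1, 4, 7, 3, 8, 2, 6, 5, 0, 7, 4, 1, 3, 9], 1),
   ([7, 8, 7, 2, 7, 8, 7, 3, 0, 2, 6, 9, 6, 3, 6, 9, 6, 3], 1),
   ([2, 8, 7, 8, 7, 8, 7, 3, 0, 2, 6, 9, 6, 9, 6, 9, 3, 1], 1),
   ([2, 8, 7, 8, 7, 8, 7, 3, 4, 2, 6, 9, 6, 9, 6, 9, 3, 5], 1),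
   ([2, 8, 7, 8, 7, 8, 7, 3, 6, 2, 6, 9, 6, 9, 6, 9, 3, 7], 1),
   ([0, 1], 1),
   ([1, 0], 1),
   ([2, 3], 1),
   ([3, 2], 1),
   ([4, 5], 1),
   ([5, 4], 1),
   ([6, 7], 1),
   ([7, 6], 1),
   ([8, 9], 1),
   ([9, 8], 1),
   ([], 1)]

theorem hspecs : baseL = specs.map (fun s => wpow s.1 s.2) := by
  decide +kernel

theorem hfix5 : ∀ i < tN, (Fn.applyW TT (([0, 0, 3, 0, 3, 0, 3, 1, 2, 0, 2, 1, 2, 1, 2, 1, 1, 3] : List ℕ), 1).1)^[(([0, 0, 3, 0, 3, 0, 3, 1, 2, 0, 2, 1, 2, 1, 2, 1, 1, 3] : List ℕ), 1).2] i = i :=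
  Fn.fix_of_rangeOK (Fn.rangeOK_step hm5_14 rfl
    (Fn.rangeOK_step hm5_13 rfl
    (Fn.rangeOK_step hm5_12 rfl
    (Fn.rangeOK_step hm5_11 rfl
    (Fn.rangeOK_step hm5_10 rfl
    (Fn.rangeOK_step hm5_9 rfl
    (Fn.rangeOK_step hm5_8 rfl
    (Fn.rangeOK_step hm5_7 rfl
    (Fn.rangeOK_step hm5_6 rfl
    (Fn.rangeOK_step hm5_5 rfl
    (Fn.rangeOK_step hm5_4 rfl
    (Fn.rangeOK_step hm5_3 rfl
    (Fn.rangeOK_step hm5_2 rfl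
    (Fn.rangeOK_step hm5_1 rfl
    (Fn.rangeOK_step hm5_0 rfl
    (Fn.rangeOK_start TT [0, 0, 3, 0, 3, 0, 3, 1, 2, 0, 2, 1, 2, 1, 2, 1, 1, 3] 1 tN))))))))))))))))

theorem hfix6 : ∀ i < tN, (Fn.applyW TT (([3, 0, 0, 3, 3, 0, 0, 3, 0, 2, 1, 1, 2, 2, 1, 1, 2, 1] : List ℕ), 1).1)^[(([3, 0, 0, 3, 3, 0, 0, 3, 0, 2, 1, 1, 2, 2, 1, 1, 2, 1] : List ℕ), 1).2] i = i :=
  Fn.fix_of_rangeOK (Fn.rangeOK_step hm6_14 rfl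
    (Fn.rangeOK_step hm6_13 rfl
    (Fn.rangeOK_step hm6_12 rfl
    (Fn.rangeOK_step hm6_11 rfl
    (Fn.rangeOK_step hm6_10 rfl
    (Fn.rangeOK_step hm6_9 rfl
    (Fn.rangeOK_step hm6_8 rfl
    (Fn.rangeOK_step hm6_7 rfl
    (Fn.rangeOK_step hm6_6 rfl
    (Fn.rangeOK_step hm6_5 rfl
    (Fn.rangeOK_step hm6_4 rfl
    (Fn.rangeOK_step hm6_3 rfl
    (Fn.rangeOK_step hm6_2 rfl
    (Fn.rangeOK_step hm6_1 rfl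
    (Fn.rangeOK_step hm6_0 rfl
    (Fn.rangeOK_start TT [3, 0, 0, 3, 3, 0, 0, 3, 0, 2, 1, 1, 2, 2, 1, 1, 2, 1] 1 tN))))))))))))))))

theorem hfix7 : ∀ i < tN, (Fn.applyW TT (([2, 1, 1, 2, 2, 1, 1, 2, 0, 3, 0, 0, 3, 3, 0, 0, 3, 1] : List ℕ), 1).1)^[(([2, 1, 1, 2, 2, 1, 1, 2, 0, 3, 0, 0, 3, 3, 0, 0, 3, 1] : List ℕ), 1).2] i = i :=
  Fn.fix_of_rangeOK (Fn.rangeOK_step hm7_14 rfl
    (Fn.rangeOK_step hm7_13 rfl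
    (Fn.rangeOK_step hm7_12 rfl
    (Fn.rangeOK_step hm7_11 rfl
    (Fn.rangeOK_step hm7_10 rfl
    (Fn.rangeOK_step hm7_9 rfl
    (Fn.rangeOK_step hm7_8 rfl
    (Fn.rangeOK_step hm7_7 rfl
    (Fn.rangeOK_step hm7_6 rfl
    (Fn.rangeOK_step hm7_5 rfl
    (Fn.rangeOK_step hm7_4 rfl
    (Fn.rangeOK_step hm7_3 rfl
    (Fn.rangeOK_step hm7_2 rfl
    (Fn.rangeOK_step hm7_1 rfl
    (Fn.rangeOK_step hm7_0 rfl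
    (Fn.rangeOK_start TT [2, 1, 1, 2, 2, 1, 1, 2, 0, 3, 0, 0, 3, 3, 0, 0, 3, 1] 1 tN))))))))))))))))

theorem hfix8 : ∀ i < tN, (Fn.applyW TT (([2, 0, 3, 0, 3, 1, 2, 2, 0, 3, 3, 0, 2, 1, 2, 1, 3, 1] : List ℕ), 1).1)^[(([2, 0, 3, 0, 3, 1, 2, 2, 0, 3, 3, 0, 2, 1, 2, 1, 3, 1] : List ℕ), 1).2] i = i :=
  Fn.fix_of_rangeOK (Fn.rangeOK_step hm8_14 rfl
    (Fn.rangeOK_step hm8_13 rfl
    (Fn.rangeOK_step hm8_12 rfl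
    (Fn.rangeOK_step hm8_11 rfl
    (Fn.rangeOK_step hm8_10 rfl
    (Fn.rangeOK_step hm8_9 rfl
    (Fn.rangeOK_step hm8_8 rfl
    (Fn.rangeOK_step hm8_7 rfl
    (Fn.rangeOK_step hm8_6 rfl
    (Fn.rangeOK_step hm8_5 rfl
    (Fn.rangeOK_step hm8_4 rfl
    (Fn.rangeOK_step hm8_3 rfl
    (Fn.rangeOK_step hm8_2 rfl
    (Fn.rangeOK_step hm8_1 rfl
    (Fn.rangeOK_step hm8_0 rfl
    (Fn.rangeOK_start TT [2, 0, 3, 0, 3, 1, 2, 2, 0, 3, 3, 0, 2, 1, 2, 1, 3, 1] 1 tN))))))))))))))))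

theorem hfix9 : ∀ i < tN, (Fn.applyW TT (([3, 1, 2, 1, 2, 1, 2, 2, 0, 3, 3, 0, 3, 0, 3, 0, 2, 1] : List ℕ), 1).1)^[(([3, 1, 2, 1, 2, 1, 2, 2, 0, 3, 3, 0, 3, 0, 3, 0, 2, 1] : List ℕ), 1).2] i = i :=
  Fn.fix_of_rangeOK (Fn.rangeOK_step hm9_14 rfl
    (Fn.rangeOK_step hm9_13 rfl
    (Fn.rangeOK_step hm9_12 rfl
    (Fn.rangeOK_step hm9_11 rfl
    (Fn.rangeOK_step hm9_10 rfl
    (Fn.rangeOK_step hm9_9 rfl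
    (Fn.rangeOK_step hm9_8 rfl
    (Fn.rangeOK_step hm9_7 rfl
    (Fn.rangeOK_step hm9_6 rfl
    (Fn.rangeOK_step hm9_5 rfl
    (Fn.rangeOK_step hm9_4 rfl
    (Fn.rangeOK_step hm9_3 rfl
    (Fn.rangeOK_step hm9_2 rfl
    (Fn.rangeOK_step hm9_1 rfl
    (Fn.rangeOK_step hm9_0 rfl
    (Fn.rangeOK_start TT [3, 1, 2, 1, 2, 1, 2, 2, 0, 3, 3, 0, 3, 0, 3, 0, 2, 1] 1 tN))))))))))))))))

theorem hfix10 : ∀ i < tN, (Fn.applyW TT (([0, 2, 0, 0, 3, 1, 1, 1, 2, 0, 0, 0, 2, 1, 1, 3, 1, 3, 3] : List ℕ), 1).1)^[(([0, 2, 0, 0, 3, 1, 1, 1, 2, 0, 0, 0, 2, 1, 1, 3, 1, 3, 3] : List ℕ), 1).2] i = i :=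
  Fn.fix_of_rangeOK (Fn.rangeOK_step hm10_15 rfl
    (Fn.rangeOK_step hm10_14 rfl
    (Fn.rangeOK_step hm10_13 rfl
    (Fn.rangeOK_step hm10_12 rfl
    (Fn.rangeOK_step hm10_11 rfl
    (Fn.rangeOK_step hm10_10 rfl
    (Fn.rangeOK_step hm10_9 rfl
    (Fn.rangeOK_step hm10_8 rfl
    (Fn.rangeOK_step hm10_7 rfl
    (Fn.rangeOK_step hm10_6 rfl
    (Fn.rangeOK_step hm10_5 rfl
    (Fn.rangeOK_step hm10_4 rfl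
    (Fn.rangeOK_step hm10_3 rfl
    (Fn.rangeOK_step hm10_2 rfl
    (Fn.rangeOK_step hm10_1 rfl
    (Fn.rangeOK_step hm10_0 rfl
    (Fn.rangeOK_start TT [0, 2, 0, 0, 3, 1, 1, 1, 2, 0, 0, 0, 2, 1, 1, 3, 1, 3, 3] 1 tN)))))))))))))))))

theorem hfix11 : ∀ i < tN, (Fn.applyW TT (([1, 2, 0, 0, 0, 2, 1, 1, 2, 0, 0, 3, 1, 1, 1, 3, 0, 3, 3] : List ℕ), 1).1)^[(([1, 2, 0, 0, 0, 2, 1, 1, 2, 0, 0, 3, 1, 1, 1, 3, 0, 3, 3] : List ℕ), 1).2] i = i :=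
  Fn.fix_of_rangeOK (Fn.rangeOK_step hm11_15 rfl
    (Fn.rangeOK_step hm11_14 rfl
    (Fn.rangeOK_step hm11_13 rfl
    (Fn.rangeOK_step hm11_12 rfl
    (Fn.rangeOK_step hm11_11 rfl
    (Fn.rangeOK_step hm11_10 rfl
    (Fn.rangeOK_step hm11_9 rfl
    (Fn.rangeOK_step hm11_8 rfl
    (Fn.rangeOK_step hm11_7 rfl
    (Fn.rangeOK_step hm11_6 rfl
    (Fn.rangeOK_step hm11_5 rfl
    (Fn.rangeOK_step hm11_4 rfl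
    (Fn.rangeOK_step hm11_3 rfl
    (Fn.rangeOK_step hm11_2 rfl
    (Fn.rangeOK_step hm11_1 rfl
    (Fn.rangeOK_step hm11_0 rfl
    (Fn.rangeOK_start TT [1, 2, 0, 0, 0, 2, 1, 1, 2, 0, 0, 3, 1, 1, 1, 3, 0, 3, 3] 1 tN)))))))))))))))))

theorem hfix12 : ∀ i < tN, (Fn.applyW TT (([0, 3, 1, 1, 3, 0, 3, 1, 2, 0, 2, 1, 2, 0, 0, 2, 1, 3, 3] : List ℕ), 1).1)^[(([0, 3, 1, 1, 3, 0, 3, 1, 2, 0, 2, 1, 2, 0, 0, 2, 1, 3, 3] : List ℕ), 1).2] i = i :=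
  Fn.fix_of_rangeOK (Fn.rangeOK_step hm12_15 rfl
    (Fn.rangeOK_step hm12_14 rfl
    (Fn.rangeOK_step hm12_13 rfl
    (Fn.rangeOK_step hm12_12 rfl
    (Fn.rangeOK_step hm12_11 rfl
    (Fn.rangeOK_step hm12_10 rfl
    (Fn.rangeOK_step hm12_9 rfl
    (Fn.rangeOK_step hm12_8 rfl
    (Fn.rangeOK_step hm12_7 rfl
    (Fn.rangeOK_step hm12_6 rfl
    (Fn.rangeOK_step hm12_5 rfl
    (Fn.rangeOK_step hm12_4 rfl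
    (Fn.rangeOK_step hm12_3 rfl
    (Fn.rangeOK_step hm12_2 rfl
    (Fn.rangeOK_step hm12_1 rfl
    (Fn.rangeOK_step hm12_0 rfl
    (Fn.rangeOK_start TT [0, 3, 1, 1, 3, 0, 3, 1, 2, 0, 2, 1, 2, 0, 0, 2, 1, 3, 3] 1 tN)))))))))))))))))

theorem hfix13 : ∀ i < tN, (Fn.applyW TT (([1, 3, 1, 1, 2, 0, 0, 0, 2, 1, 1, 1, 3, 0, 0, 2, 0, 3, 3] : List ℕ), 1).1)^[(([1, 3, 1, 1, 2, 0, 0, 0, 2, 1, 1, 1, 3, 0, 0, 2, 0, 3, 3] : List ℕ), 1).2] i = i :=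
  Fn.fix_of_rangeOK (Fn.rangeOK_step hm13_15 rfl
    (Fn.rangeOK_step hm13_14 rfl
    (Fn.rangeOK_step hm13_13 rfl
    (Fn.rangeOK_step hm13_12 rfl
    (Fn.rangeOK_step hm13_11 rfl
    (Fn.rangeOK_step hm13_10 rfl
    (Fn.rangeOK_step hm13_9 rfl
    (Fn.rangeOK_step hm13_8 rfl
    (Fn.rangeOK_step hm13_7 rfl
    (Fn.rangeOK_step hm13_6 rfl
    (Fn.rangeOK_step hm13_5 rfl
    (Fn.rangeOK_step hm13_4 rfl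
    (Fn.rangeOK_step hm13_3 rfl
    (Fn.rangeOK_step hm13_2 rfl
    (Fn.rangeOK_step hm13_1 rfl
    (Fn.rangeOK_step hm13_0 rfl
    (Fn.rangeOK_start TT [1, 3, 1, 1, 2, 0, 0, 0, 2, 1, 1, 1, 3, 0, 0, 2, 0, 3, 3] 1 tN)))))))))))))))))

theorem hfix14 : ∀ i < tN, (Fn.applyW TT (([0, 3, 1, 1, 1, 3, 0, 0, 2, 1, 1, 2, 0, 0, 0, 2, 1, 3, 3] : List ℕ), 1).1)^[(([0, 3, 1, 1, 1, 3, 0, 0, 2, 1, 1, 2, 0, 0, 0, 2, 1, 3, 3] : List ℕ), 1).2] i = i :=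
  Fn.fix_of_rangeOK (Fn.rangeOK_step hm14_15 rfl
    (Fn.rangeOK_step hm14_14 rfl
    (Fn.rangeOK_step hm14_13 rfl
    (Fn.rangeOK_step hm14_12 rfl
    (Fn.rangeOK_step hm14_11 rfl
    (Fn.rangeOK_step hm14_10 rfl
    (Fn.rangeOK_step hm14_9 rfl
    (Fn.rangeOK_step hm14_8 rfl
    (Fn.rangeOK_step hm14_7 rfl
    (Fn.rangeOK_step hm14_6 rfl
    (Fn.rangeOK_step hm14_5 rfl
    (Fn.rangeOK_step hm14_4 rfl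
    (Fn.rangeOK_step hm14_3 rfl
    (Fn.rangeOK_step hm14_2 rfl
    (Fn.rangeOK_step hm14_1 rfl
    (Fn.rangeOK_step hm14_0 rfl
    (Fn.rangeOK_start TT [0, 3, 1, 1, 1, 3, 0, 0, 2, 1, 1, 2, 0, 0, 0, 2, 1, 3, 3] 1 tN)))))))))))))))))

theorem hfix15 : ∀ i < tN, (Fn.applyW TT (([1, 2, 0, 0, 0, 3, 0, 0, 2, 1, 1, 2, 1, 1, 1, 3, 0, 3, 3] : List ℕ), 1).1)^[(([1, 2, 0, 0, 0, 3, 0, 0, 2, 1, 1, 2, 1, 1, 1, 3, 0, 3, 3] : List ℕ), 1).2] i = i :=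
  Fn.fix_of_rangeOK (Fn.rangeOK_step hm15_15 rfl
    (Fn.rangeOK_step hm15_14 rfl
    (Fn.rangeOK_step hm15_13 rfl
    (Fn.rangeOK_step hm15_12 rfl
    (Fn.rangeOK_step hm15_11 rfl
    (Fn.rangeOK_step hm15_10 rfl
    (Fn.rangeOK_step hm15_9 rfl
    (Fn.rangeOK_step hm15_8 rfl
    (Fn.rangeOK_step hm15_7 rfl
    (Fn.rangeOK_step hm15_6 rfl
    (Fn.rangeOK_step hm15_5 rfl
    (Fn.rangeOK_step hm15_4 rfl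
    (Fn.rangeOK_step hm15_3 rfl
    (Fn.rangeOK_step hm15_2 rfl
    (Fn.rangeOK_step hm15_1 rfl
    (Fn.rangeOK_step hm15_0 rfl
    (Fn.rangeOK_start TT [1, 2, 0, 0, 0, 3, 0, 0, 2, 1, 1, 2, 1, 1, 1, 3, 0, 3, 3] 1 tN)))))))))))))))))

theorem hfix16 : ∀ i < tN, (Fn.applyW TT (([2, 1, 3, 3, 1, 2, 1, 3, 0, 2, 0, 3, 0, 2, 2, 0, 3, 1, 1] : List ℕ), 1).1)^[(([2, 1, 3, 3, 1, 2, 1, 3, 0, 2, 0, 3, 0, 2, 2, 0, 3, 1, 1] : List ℕ), 1).2] i = i :=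
  Fn.fix_of_rangeOK (Fn.rangeOK_step hm16_15 rfl
    (Fn.rangeOK_step hm16_14 rfl
    (Fn.rangeOK_step hm16_13 rfl
    (Fn.rangeOK_step hm16_12 rfl
    (Fn.rangeOK_step hm16_11 rfl
    (Fn.rangeOK_step hm16_10 rfl
    (Fn.rangeOK_step hm16_9 rfl
    (Fn.rangeOK_step hm16_8 rfl
    (Fn.rangeOK_step hm16_7 rfl
    (Fn.rangeOK_step hm16_6 rfl
    (Fn.rangeOK_step hm16_5 rfl
    (Fn.rangeOK_step hm16_4 rfl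
    (Fn.rangeOK_step hm16_3 rfl
    (Fn.rangeOK_step hm16_2 rfl
    (Fn.rangeOK_step hm16_1 rfl
    (Fn.rangeOK_step hm16_0 rfl
    (Fn.rangeOK_start TT [2, 1, 3, 3, 1, 2, 1, 3, 0, 2, 0, 3, 0, 2, 2, 0, 3, 1, 1] 1 tN)))))))))))))))))

theorem hfix17 : ∀ i < tN, (Fn.applyW TT (([3, 0, 2, 2, 2, 1, 2, 2, 0, 3, 3, 0, 3, 3, 3, 1, 2, 1, 1] : List ℕ), 1).1)^[(([3, 0, 2, 2, 2, 1, 2, 2, 0, 3, 3, 0, 3, 3, 3, 1, 2, 1, 1] : List ℕ), 1).2] i = i :=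
  Fn.fix_of_rangeOK (Fn.rangeOK_step hm17_15 rfl
    (Fn.rangeOK_step hm17_14 rfl
    (Fn.rangeOK_step hm17_13 rfl
    (Fn.rangeOK_step hm17_12 rfl
    (Fn.rangeOK_step hm17_11 rfl
    (Fn.rangeOK_step hm17_10 rfl
    (Fn.rangeOK_step hm17_9 rfl
    (Fn.rangeOK_step hm17_8 rfl
    (Fn.rangeOK_step hm17_7 rfl
    (Fn.rangeOK_step hm17_6 rfl
    (Fn.rangeOK_step hm17_5 rfl
    (Fn.rangeOK_step hm17_4 rfl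
    (Fn.rangeOK_step hm17_3 rfl
    (Fn.rangeOK_step hm17_2 rfl
    (Fn.rangeOK_step hm17_1 rfl
    (Fn.rangeOK_step hm17_0 rfl
    (Fn.rangeOK_start TT [3, 0, 2, 2, 2, 1, 2, 2, 0, 3, 3, 0, 3, 3, 3, 1, 2, 1, 1] 1 tN)))))))))))))))))

theorem hfix18 : ∀ i < tN, (Fn.applyW TT (([3, 1, 3, 3, 0, 2, 2, 2, 0, 3, 3, 3, 1, 2, 2, 0, 2, 1, 1] : List ℕ), 1).1)^[(([3, 1, 3, 3, 0, 2, 2, 2, 0, 3, 3, 3, 1, 2, 2, 0, 2, 1, 1] : List ℕ), 1).2] i = i :=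
  Fn.fix_of_rangeOK (Fn.rangeOK_step hm18_15 rfl
    (Fn.rangeOK_step hm18_14 rfl
    (Fn.rangeOK_step hm18_13 rfl
    (Fn.rangeOK_step hm18_12 rfl
    (Fn.rangeOK_step hm18_11 rfl
    (Fn.rangeOK_step hm18_10 rfl
    (Fn.rangeOK_step hm18_9 rfl
    (Fn.rangeOK_step hm18_8 rfl
    (Fn.rangeOK_step hm18_7 rfl
    (Fn.rangeOK_step hm18_6 rfl
    (Fn.rangeOK_step hm18_5 rfl
    (Fn.rangeOK_step hm18_4 rfl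
    (Fn.rangeOK_step hm18_3 rfl
    (Fn.rangeOK_step hm18_2 rfl
    (Fn.rangeOK_step hm18_1 rfl
    (Fn.rangeOK_step hm18_0 rfl
    (Fn.rangeOK_start TT [3, 1, 3, 3, 0, 2, 2, 2, 0, 3, 3, 3, 1, 2, 2, 0, 2, 1, 1] 1 tN)))))))))))))))))

theorem hfix19 : ∀ i < tN, (Fn.applyW TT (([1, 3, 0, 3, 1, 1, 3, 0, 2, 1, 2, 0, 0, 2, 1, 2, 0, 2, 2, 2] : List ℕ), 1).1)^[(([1, 3, 0, 3, 1, 1, 3, 0, 2, 1, 2, 0, 0, 2, 1, 2, 0, 2, 2, 2] : List ℕ), 1).2] i = i :=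
  Fn.fix_of_rangeOK (Fn.rangeOK_step hm19_16 rfl
    (Fn.rangeOK_step hm19_15 rfl
    (Fn.rangeOK_step hm19_14 rfl
    (Fn.rangeOK_step hm19_13 rfl
    (Fn.rangeOK_step hm19_12 rfl
    (Fn.rangeOK_step hm19_11 rfl
    (Fn.rangeOK_step hm19_10 rfl
    (Fn.rangeOK_step hm19_9 rfl
    (Fn.rangeOK_step hm19_8 rfl
    (Fn.rangeOK_step hm19_7 rfl
    (Fn.rangeOK_step hm19_6 rfl
    (Fn.rangeOK_step hm19_5 rfl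
    (Fn.rangeOK_step hm19_4 rfl
    (Fn.rangeOK_step hm19_3 rfl
    (Fn.rangeOK_step hm19_2 rfl
    (Fn.rangeOK_step hm19_1 rfl
    (Fn.rangeOK_step hm19_0 rfl
    (Fn.rangeOK_start TT [1, 3, 0, 3, 1, 1, 3, 0, 2, 1, 2, 0, 0, 2, 1, 2, 0, 2, 2, 2] 1 tN))))))))))))))))))

theorem hfix20 : ∀ i < tN, (Fn.applyW TT (([1, 2, 2, 1, 1, 2, 0, 3, 0, 2, 1, 2, 1, 3, 0, 0, 3, 3, 0, 3] : List ℕ), 1).1)^[(([1, 2, 2, 1, 1, 2, 0, 3, 0, 2, 1, 2, 1, 3, 0, 0, 3, 3, 0, 3] : List ℕ), 1).2] i = i :=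
  Fn.fix_of_rangeOK (Fn.rangeOK_step hm20_16 rfl
    (Fn.rangeOK_step hm20_15 rfl
    (Fn.rangeOK_step hm20_14 rfl
    (Fn.rangeOK_step hm20_13 rfl
    (Fn.rangeOK_step hm20_12 rfl
    (Fn.rangeOK_step hm20_11 rfl
    (Fn.rangeOK_step hm20_10 rfl
    (Fn.rangeOK_step hm20_9 rfl
    (Fn.rangeOK_step hm20_8 rfl
    (Fn.rangeOK_step hm20_7 rfl
    (Fn.rangeOK_step hm20_6 rfl
    (Fn.rangeOK_step hm20_5 rfl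
    (Fn.rangeOK_step hm20_4 rfl
    (Fn.rangeOK_step hm20_3 rfl
    (Fn.rangeOK_step hm20_2 rfl
    (Fn.rangeOK_step hm20_1 rfl
    (Fn.rangeOK_step hm20_0 rfl
    (Fn.rangeOK_start TT [1, 2, 2, 1, 1, 2, 0, 3, 0, 2, 1, 2, 1, 3, 0, 0, 3, 3, 0, 3] 1 tN))))))))))))))))))

theorem hfix21 : ∀ i < tN, (Fn.applyW TT (([2, 2, 2, 0, 3, 3, 1, 3, 0, 2, 0, 2, 2, 1, 3, 3, 3, 0, 0, 0] : List ℕ), 1).1)^[(([2, 2, 2, 0, 3, 3, 1, 3, 0, 2, 0, 2, 2, 1, 3, 3, 3, 0, 0, 0] : List ℕ), 1).2] i = i :=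
  Fn.fix_of_rangeOK (Fn.rangeOK_step hm21_16 rfl
    (Fn.rangeOK_step hm21_15 rfl
    (Fn.rangeOK_step hm21_14 rfl
    (Fn.rangeOK_step hm21_13 rfl
    (Fn.rangeOK_step hm21_12 rfl
    (Fn.rangeOK_step hm21_11 rfl
    (Fn.rangeOK_step hm21_10 rfl
    (Fn.rangeOK_step hm21_9 rfl
    (Fn.rangeOK_step hm21_8 rfl
    (Fn.rangeOK_step hm21_7 rfl
    (Fn.rangeOK_step hm21_6 rfl
    (Fn.rangeOK_step hm21_5 rfl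
    (Fn.rangeOK_step hm21_4 rfl
    (Fn.rangeOK_step hm21_3 rfl
    (Fn.rangeOK_step hm21_2 rfl
    (Fn.rangeOK_step hm21_1 rfl
    (Fn.rangeOK_step hm21_0 rfl
    (Fn.rangeOK_start TT [2, 2, 2, 0, 3, 3, 1, 3, 0, 2, 0, 2, 2, 1, 3, 3, 3, 0, 0, 0] 1 tN))))))))))))))))))

theorem hfix22 : ∀ i < tN, (Fn.applyW TT (([3, 0, 2, 1, 1, 2, 2, 1, 3, 0, 2, 0, 3, 3, 0, 0, 3, 1, 2, 1] : List ℕ), 1).1)^[(([3, 0, 2, 1, 1, 2, 2, 1, 3, 0, 2, 0, 3, 3, 0, 0, 3, 1, 2, 1] : List ℕ), 1).2] i = i :=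
  Fn.fix_of_rangeOK (Fn.rangeOK_step hm22_16 rfl
    (Fn.rangeOK_step hm22_15 rfl
    (Fn.rangeOK_step hm22_14 rfl
    (Fn.rangeOK_step hm22_13 rfl
    (Fn.rangeOK_step hm22_12 rfl
    (Fn.rangeOK_step hm22_11 rfl
    (Fn.rangeOK_step hm22_10 rfl
    (Fn.rangeOK_step hm22_9 rfl
    (Fn.rangeOK_step hm22_8 rfl
    (Fn.rangeOK_step hm22_7 rfl
    (Fn.rangeOK_step hm22_6 rfl
    (Fn.rangeOK_step hm22_5 rfl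
    (Fn.rangeOK_step hm22_4 rfl
    (Fn.rangeOK_step hm22_3 rfl
    (Fn.rangeOK_step hm22_2 rfl
    (Fn.rangeOK_step hm22_1 rfl
    (Fn.rangeOK_step hm22_0 rfl
    (Fn.rangeOK_start TT [3, 0, 2, 1, 1, 2, 2, 1, 3, 0, 2, 0, 3, 3, 0, 0, 3, 1, 2, 1] 1 tN))))))))))))))))))

theorem hfix23 : ∀ i < tN, (Fn.applyW TT (([2, 1, 1, 2, 2, 1, 3, 0, 3, 0, 2, 1, 2, 0, 3, 3, 0, 0, 3, 1] : List ℕ), 1).1)^[(([2, 1, 1, 2, 2, 1, 3, 0, 3, 0, 2, 1, 2, 0, 3, 3, 0, 0, 3, 1] : List ℕ), 1).2] i = i :=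
  Fn.fix_of_rangeOK (Fn.rangeOK_step hm23_16 rfl
    (Fn.rangeOK_step hm23_15 rfl
    (Fn.rangeOK_step hm23_14 rfl
    (Fn.rangeOK_step hm23_13 rfl
    (Fn.rangeOK_step hm23_12 rfl
    (Fn.rangeOK_step hm23_11 rfl
    (Fn.rangeOK_step hm23_10 rfl
    (Fn.rangeOK_step hm23_9 rfl
    (Fn.rangeOK_step hm23_8 rfl
    (Fn.rangeOK_step hm23_7 rfl
    (Fn.rangeOK_step hm23_6 rfl
    (Fn.rangeOK_step hm23_5 rfl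
    (Fn.rangeOK_step hm23_4 rfl
    (Fn.rangeOK_step hm23_3 rfl
    (Fn.rangeOK_step hm23_2 rfl
    (Fn.rangeOK_step hm23_1 rfl
    (Fn.rangeOK_step hm23_0 rfl
    (Fn.rangeOK_start TT [2, 1, 1, 2, 2, 1, 3, 0, 3, 0, 2, 1, 2, 0, 3, 3, 0, 0, 3, 1] 1 tN))))))))))))))))))

theorem hfix24 : ∀ i < tN, (Fn.applyW TT (([2, 2, 1, 1, 2, 0, 3, 0, 3, 0, 2, 1, 2, 1, 3, 0, 0, 3, 3, 1] : List ℕ), 1).1)^[(([2, 2, 1, 1, 2, 0, 3, 0, 3, 0, 2, 1, 2, 1, 3, 0, 0, 3, 3, 1] : List ℕ), 1).2] i = i :=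
  Fn.fix_of_rangeOK (Fn.rangeOK_step hm24_16 rfl
    (Fn.rangeOK_step hm24_15 rfl
    (Fn.rangeOK_step hm24_14 rfl
    (Fn.rangeOK_step hm24_13 rfl
    (Fn.rangeOK_step hm24_12 rfl
    (Fn.rangeOK_step hm24_11 rfl
    (Fn.rangeOK_step hm24_10 rfl
    (Fn.rangeOK_step hm24_9 rfl
    (Fn.rangeOK_step hm24_8 rfl
    (Fn.rangeOK_step hm24_7 rfl
    (Fn.rangeOK_step hm24_6 rfl
    (Fn.rangeOK_step hm24_5 rfl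
    (Fn.rangeOK_step hm24_4 rfl
    (Fn.rangeOK_step hm24_3 rfl
    (Fn.rangeOK_step hm24_2 rfl
    (Fn.rangeOK_step hm24_1 rfl
    (Fn.rangeOK_step hm24_0 rfl
    (Fn.rangeOK_start TT [2, 2, 1, 1, 2, 0, 3, 0, 3, 0, 2, 1, 2, 1, 3, 0, 0, 3, 3, 1] 1 tN))))))))))))))))))

theorem hfix25 : ∀ i < tN, (Fn.applyW TT (([3, 1, 2, 2, 1, 1, 2, 0, 3, 0, 2, 1, 3, 0, 0, 3, 3, 0, 2, 1] : List ℕ), 1).1)^[(([3, 1, 2, 2, 1, 1, 2, 0, 3, 0, 2, 1, 3, 0, 0, 3, 3, 0, 2, 1] : List ℕ), 1).2] i = i :=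
  Fn.fix_of_rangeOK (Fn.rangeOK_step hm25_16 rfl
    (Fn.rangeOK_step hm25_15 rfl
    (Fn.rangeOK_step hm25_14 rfl
    (Fn.rangeOK_step hm25_13 rfl
    (Fn.rangeOK_step hm25_12 rfl
    (Fn.rangeOK_step hm25_11 rfl
    (Fn.rangeOK_step hm25_10 rfl
    (Fn.rangeOK_step hm25_9 rfl
    (Fn.rangeOK_step hm25_8 rfl
    (Fn.rangeOK_step hm25_7 rfl
    (Fn.rangeOK_step hm25_6 rfl
    (Fn.rangeOK_step hm25_5 rfl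
    (Fn.rangeOK_step hm25_4 rfl
    (Fn.rangeOK_step hm25_3 rfl
    (Fn.rangeOK_step hm25_2 rfl
    (Fn.rangeOK_step hm25_1 rfl
    (Fn.rangeOK_step hm25_0 rfl
    (Fn.rangeOK_start TT [3, 1, 2, 2, 1, 1, 2, 0, 3, 0, 2, 1, 3, 0, 0, 3, 3, 0, 2, 1] 1 tN))))))))))))))))))

theorem hfix26 : ∀ i < tN, (Fn.applyW TT (([2, 2, 1, 1, 3, 3, 3, 3, 3, 0, 2, 2, 2, 2, 2, 0, 0, 3, 3, 1] : List ℕ), 1).1)^[(([2, 2, 1, 1, 3, 3, 3, 3, 3, 0, 2, 2, 2, 2, 2, 0, 0, 3, 3, 1] : List ℕ), 1).2] i = i :=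
  Fn.fix_of_rangeOK (Fn.rangeOK_step hm26_16 rfl
    (Fn.rangeOK_step hm26_15 rfl
    (Fn.rangeOK_step hm26_14 rfl
    (Fn.rangeOK_step hm26_13 rfl
    (Fn.rangeOK_step hm26_12 rfl
    (Fn.rangeOK_step hm26_11 rfl
    (Fn.rangeOK_step hm26_10 rfl
    (Fn.rangeOK_step hm26_9 rfl
    (Fn.rangeOK_step hm26_8 rfl
    (Fn.rangeOK_step hm26_7 rfl
    (Fn.rangeOK_step hm26_6 rfl
    (Fn.rangeOK_step hm26_5 rfl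
    (Fn.rangeOK_step hm26_4 rfl
    (Fn.rangeOK_step hm26_3 rfl
    (Fn.rangeOK_step hm26_2 rfl
    (Fn.rangeOK_step hm26_1 rfl
    (Fn.rangeOK_step hm26_0 rfl
    (Fn.rangeOK_start TT [2, 2, 1, 1, 3, 3, 3, 3, 3, 0, 2, 2, 2, 2, 2, 0, 0, 3, 3, 1] 1 tN))))))))))))))))))

theorem hfix27 : ∀ i < tN, (Fn.applyW TT (([2, 0, 3, 3, 0, 0, 3, 1, 2, 0, 3, 0, 2, 1, 1, 2, 2, 1, 3, 1] : List ℕ), 1).1)^[(([2, 0, 3, 3, 0, 0, 3, 1, 2, 0, 3, 0, 2, 1, 1, 2, 2, 1, 3, 1] : List ℕ), 1).2] i = i :=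
  Fn.fix_of_rangeOK (Fn.rangeOK_step hm27_16 rfl
    (Fn.rangeOK_step hm27_15 rfl
    (Fn.rangeOK_step hm27_14 rfl
    (Fn.rangeOK_step hm27_13 rfl
    (Fn.rangeOK_step hm27_12 rfl
    (Fn.rangeOK_step hm27_11 rfl
    (Fn.rangeOK_step hm27_10 rfl
    (Fn.rangeOK_step hm27_9 rfl
    (Fn.rangeOK_step hm27_8 rfl
    (Fn.rangeOK_step hm27_7 rfl
    (Fn.rangeOK_step hm27_6 rfl
    (Fn.rangeOK_step hm27_5 rfl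
    (Fn.rangeOK_step hm27_4 rfl
    (Fn.rangeOK_step hm27_3 rfl
    (Fn.rangeOK_step hm27_2 rfl
    (Fn.rangeOK_step hm27_1 rfl
    (Fn.rangeOK_step hm27_0 rfl
    (Fn.rangeOK_start TT [2, 0, 3, 3, 0, 0, 3, 1, 2, 0, 3, 0, 2, 1, 1, 2, 2, 1, 3, 1] 1 tN))))))))))))))))))

theorem hfix28 : ∀ i < tN, (Fn.applyW TT (([3, 1, 2, 1, 3, 3, 1, 2, 0, 3, 0, 2, 2, 0, 3, 0, 2, 0, 0, 0] : List ℕ), 1).1)^[(([3, 1, 2, 1, 3, 3, 1, 2, 0, 3, 0, 2, 2, 0, 3, 0, 2, 0, 0, 0] : List ℕ), 1).2] i = i :=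
  Fn.fix_of_rangeOK (Fn.rangeOK_step hm28_16 rfl
    (Fn.rangeOK_step hm28_15 rfl
    (Fn.rangeOK_step hm28_14 rfl
    (Fn.rangeOK_step hm28_13 rfl
    (Fn.rangeOK_step hm28_12 rfl
    (Fn.rangeOK_step hm28_11 rfl
    (Fn.rangeOK_step hm28_10 rfl
    (Fn.rangeOK_step hm28_9 rfl
    (Fn.rangeOK_step hm28_8 rfl
    (Fn.rangeOK_step hm28_7 rfl
    (Fn.rangeOK_step hm28_6 rfl
    (Fn.rangeOK_step hm28_5 rfl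
    (Fn.rangeOK_step hm28_4 rfl
    (Fn.rangeOK_step hm28_3 rfl
    (Fn.rangeOK_step hm28_2 rfl
    (Fn.rangeOK_step hm28_1 rfl
    (Fn.rangeOK_step hm28_0 rfl
    (Fn.rangeOK_start TT [3, 1, 2, 1, 3, 3, 1, 2, 0, 3, 0, 2, 2, 0, 3, 0, 2, 0, 0, 0] 1 tN))))))))))))))))))

theorem hfix29 : ∀ i < tN, (Fn.applyW TT (([2, 2, 1, 3, 3, 3, 1, 2, 0, 3, 0, 2, 2, 2, 0, 3, 3, 0, 0, 0] : List ℕ), 1).1)^[(([2, 2, 1, 3, 3, 3, 1, 2, 0, 3, 0, 2, 2, 2, 0, 3, 3, 0, 0, 0] : List ℕ), 1).2] i = i :=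
  Fn.fix_of_rangeOK (Fn.rangeOK_step hm29_16 rfl
    (Fn.rangeOK_step hm29_15 rfl
    (Fn.rangeOK_step hm29_14 rfl
    (Fn.rangeOK_step hm29_13 rfl
    (Fn.rangeOK_step hm29_12 rfl
    (Fn.rangeOK_step hm29_11 rfl
    (Fn.rangeOK_step hm29_10 rfl
    (Fn.rangeOK_step hm29_9 rfl
    (Fn.rangeOK_step hm29_8 rfl
    (Fn.rangeOK_step hm29_7 rfl
    (Fn.rangeOK_step hm29_6 rfl
    (Fn.rangeOK_step hm29_5 rfl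
    (Fn.rangeOK_step hm29_4 rfl
    (Fn.rangeOK_step hm29_3 rfl
    (Fn.rangeOK_step hm29_2 rfl
    (Fn.rangeOK_step hm29_1 rfl
    (Fn.rangeOK_step hm29_0 rfl
    (Fn.rangeOK_start TT [2, 2, 1, 3, 3, 3, 1, 2, 0, 3, 0, 2, 2, 2, 0, 3, 3, 0, 0, 0] 1 tN))))))))))))))))))

theorem hfix30 : ∀ i < tN, (Fn.applyW TT (([3, 1, 3, 1, 3, 1, 3, 1, 4, 0, 2, 0, 2, 0, 2, 0, 2, 5] : List ℕ), 1).1)^[(([3, 1, 3, 1, 3, 1, 3, 1, 4, 0, 2, 0, 2, 0, 2, 0, 2, 5] : List ℕ), 1).2] i = i :=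
  Fn.fix_of_rangeOK (Fn.rangeOK_step hm30_14 rfl
    (Fn.rangeOK_step hm30_13 rfl
    (Fn.rangeOK_step hm30_12 rfl
    (Fn.rangeOK_step hm30_11 rfl
    (Fn.rangeOK_step hm30_10 rfl
    (Fn.rangeOK_step hm30_9 rfl
    (Fn.rangeOK_step hm30_8 rfl
    (Fn.rangeOK_step hm30_7 rfl
    (Fn.rangeOK_step hm30_6 rfl
    (Fn.rangeOK_step hm30_5 rfl
    (Fn.rangeOK_step hm30_4 rfl
    (Fn.rangeOK_step hm30_3 rfl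
    (Fn.rangeOK_step hm30_2 rfl
    (Fn.rangeOK_step hm30_1 rfl
    (Fn.rangeOK_step hm30_0 rfl
    (Fn.rangeOK_start TT [3, 1, 3, 1, 3, 1, 3, 1, 4, 0, 2, 0, 2, 0, 2, 0, 2, 5] 1 tN))))))))))))))))

theorem hfix31 : ∀ i < tN, (Fn.applyW TT (([1, 2, 0, 0, 5, 1, 5, 1, 4, 0, 4, 0, 4, 1, 1, 3, 0, 3] : List ℕ), 1).1)^[(([1, 2, 0, 0, 5, 1, 5, 1, 4, 0, 4, 0, 4, 1, 1, 3, 0, 3] : List ℕ), 1).2] i = i :=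
  Fn.fix_of_rangeOK (Fn.rangeOK_step hm31_14 rfl
    (Fn.rangeOK_step hm31_13 rfl
    (Fn.rangeOK_step hm31_12 rfl
    (Fn.rangeOK_step hm31_11 rfl
    (Fn.rangeOK_step hm31_10 rfl
    (Fn.rangeOK_step hm31_9 rfl
    (Fn.rangeOK_step hm31_8 rfl
    (Fn.rangeOK_step hm31_7 rfl
    (Fn.rangeOK_step hm31_6 rfl
    (Fn.rangeOK_step hm31_5 rfl
    (Fn.rangeOK_step hm31_4 rfl
    (Fn.rangeOK_step hm31_3 rfl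
    (Fn.rangeOK_step hm31_2 rfl
    (Fn.rangeOK_step hm31_1 rfl
    (Fn.rangeOK_step hm31_0 rfl
    (Fn.rangeOK_start TT [1, 2, 0, 0, 5, 1, 5, 1, 4, 0, 4, 0, 4, 1, 1, 3, 0, 3] 1 tN))))))))))))))))

theorem hfix32 : ∀ i < tN, (Fn.applyW TT (([1, 1, 2, 4, 0, 4, 0, 4, 1, 5, 1, 5, 3, 0, 0, 2, 2, 2] : List ℕ), 1).1)^[(([1, 1, 2, 4, 0, 4, 0, 4, 1, 5, 1, 5, 3, 0, 0, 2, 2, 2] : List ℕ), 1).2] i = i :=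
  Fn.fix_of_rangeOK (Fn.rangeOK_step hm32_14 rfl
    (Fn.rangeOK_step hm32_13 rfl
    (Fn.rangeOK_step hm32_12 rfl
    (Fn.rangeOK_step hm32_11 rfl
    (Fn.rangeOK_step hm32_10 rfl
    (Fn.rangeOK_step hm32_9 rfl
    (Fn.rangeOK_step hm32_8 rfl
    (Fn.rangeOK_step hm32_7 rfl
    (Fn.rangeOK_step hm32_6 rfl
    (Fn.rangeOK_step hm32_5 rfl
    (Fn.rangeOK_step hm32_4 rfl
    (Fn.rangeOK_step hm32_3 rfl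
    (Fn.rangeOK_step hm32_2 rfl
    (Fn.rangeOK_step hm32_1 rfl
    (Fn.rangeOK_step hm32_0 rfl
    (Fn.rangeOK_start TT [1, 1, 2, 4, 0, 4, 0, 4, 1, 5, 1, 5, 3, 0, 0, 2, 2, 2] 1 tN))))))))))))))))

theorem hfix33 : ∀ i < tN, (Fn.applyW TT (([0, 0, 4, 1, 4, 0, 2, 0, 3, 1, 5, 0, 5, 1, 1, 4, 4, 4] : List ℕ), 1).1)^[(([0, 0, 4, 1, 4, 0, 2, 0, 3, 1, 5, 0, 5, 1, 1, 4, 4, 4] : List ℕ), 1).2] i = i :=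
  Fn.fix_of_rangeOK (Fn.rangeOK_step hm33_14 rfl
    (Fn.rangeOK_step hm33_13 rfl
    (Fn.rangeOK_step hm33_12 rfl
    (Fn.rangeOK_step hm33_11 rfl
    (Fn.rangeOK_step hm33_10 rfl
    (Fn.rangeOK_step hm33_9 rfl
    (Fn.rangeOK_step hm33_8 rfl
    (Fn.rangeOK_step hm33_7 rfl
    (Fn.rangeOK_step hm33_6 rfl
    (Fn.rangeOK_step hm33_5 rfl
    (Fn.rangeOK_step hm33_4 rfl
    (Fn.rangeOK_step hm33_3 rfl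
    (Fn.rangeOK_step hm33_2 rfl
    (Fn.rangeOK_step hm33_1 rfl
    (Fn.rangeOK_step hm33_0 rfl
    (Fn.rangeOK_start TT [0, 0, 4, 1, 4, 0, 2, 0, 3, 1, 5, 0, 5, 1, 1, 4, 4, 4] 1 tN))))))))))))))))

theorem hfix34 : ∀ i < tN, (Fn.applyW TT (([1, 1, 2, 2, 1, 1, 2, 2, 4, 3, 3, 0, 0, 3, 3, 0, 0, 5] : List ℕ), 1).1)^[(([1, 1, 2, 2, 1, 1, 2, 2, 4, 3, 3, 0, 0, 3, 3, 0, 0, 5] : List ℕ), 1).2] i = i :=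
  Fn.fix_of_rangeOK (Fn.rangeOK_step hm34_14 rfl
    (Fn.rangeOK_step hm34_13 rfl
    (Fn.rangeOK_step hm34_12 rfl
    (Fn.rangeOK_step hm34_11 rfl
    (Fn.rangeOK_step hm34_10 rfl
    (Fn.rangeOK_step hm34_9 rfl
    (Fn.rangeOK_step hm34_8 rfl
    (Fn.rangeOK_step hm34_7 rfl
    (Fn.rangeOK_step hm34_6 rfl
    (Fn.rangeOK_step hm34_5 rfl
    (Fn.rangeOK_step hm34_4 rfl
    (Fn.rangeOK_step hm34_3 rfl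
    (Fn.rangeOK_step hm34_2 rfl
    (Fn.rangeOK_step hm34_1 rfl
    (Fn.rangeOK_step hm34_0 rfl
    (Fn.rangeOK_start TT [1, 1, 2, 2, 1, 1, 2, 2, 4, 3, 3, 0, 0, 3, 3, 0, 0, 5] 1 tN))))))))))))))))

theorem hfix35 : ∀ i < tN, (Fn.applyW TT (([3, 1, 2, 1, 2, 1, 2, 2, 4, 3, 3, 0, 3, 0, 3, 0, 2, 5] : List ℕ), 1).1)^[(([3, 1, 2, 1, 2, 1, 2, 2, 4, 3, 3, 0, 3, 0, 3, 0, 2, 5] : List ℕ), 1).2] i = i :=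
  Fn.fix_of_rangeOK (Fn.rangeOK_step hm35_14 rfl
    (Fn.rangeOK_step hm35_13 rfl
    (Fn.rangeOK_step hm35_12 rfl
    (Fn.rangeOK_step hm35_11 rfl
    (Fn.rangeOK_step hm35_10 rfl
    (Fn.rangeOK_step hm35_9 rfl
    (Fn.rangeOK_step hm35_8 rfl
    (Fn.rangeOK_step hm35_7 rfl
    (Fn.rangeOK_step hm35_6 rfl
    (Fn.rangeOK_step hm35_5 rfl
    (Fn.rangeOK_step hm35_4 rfl
    (Fn.rangeOK_step hm35_3 rfl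
    (Fn.rangeOK_step hm35_2 rfl
    (Fn.rangeOK_step hm35_1 rfl
    (Fn.rangeOK_step hm35_0 rfl
    (Fn.rangeOK_start TT [3, 1, 2, 1, 2, 1, 2, 2, 4, 3, 3, 0, 3, 0, 3, 0, 2, 5] 1 tN))))))))))))))))

theorem hfix36 : ∀ i < tN, (Fn.applyW TT (([1, 4, 0, 4, 2, 2, 2, 2, 4, 3, 3, 3, 3, 5, 1, 5, 0, 4] : List ℕ), 1).1)^[(([1, 4, 0, 4, 2, 2, 2, 2, 4, 3, 3, 3, 3, 5, 1, 5, 0, 4] : List ℕ), 1).2] i = i :=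
  Fn.fix_of_rangeOK (Fn.rangeOK_step hm36_14 rfl
    (Fn.rangeOK_step hm36_13 rfl
    (Fn.rangeOK_step hm36_12 rfl
    (Fn.rangeOK_step hm36_11 rfl
    (Fn.rangeOK_step hm36_10 rfl
    (Fn.rangeOK_step hm36_9 rfl
    (Fn.rangeOK_step hm36_8 rfl
    (Fn.rangeOK_step hm36_7 rfl
    (Fn.rangeOK_step hm36_6 rfl
    (Fn.rangeOK_step hm36_5 rfl
    (Fn.rangeOK_step hm36_4 rfl
    (Fn.rangeOK_step hm36_3 rfl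
    (Fn.rangeOK_step hm36_2 rfl
    (Fn.rangeOK_step hm36_1 rfl
    (Fn.rangeOK_step hm36_0 rfl
    (Fn.rangeOK_start TT [1, 4, 0, 4, 2, 2, 2, 2, 4, 3, 3, 3, 3, 5, 1, 5, 0, 4] 1 tN))))))))))))))))

theorem hfix37 : ∀ i < tN, (Fn.applyW TT (([2, 0, 4, 1, 1, 1, 5, 2, 4, 0, 0, 0, 5, 1, 3, 1, 1, 1] : List ℕ), 1).1)^[(([2, 0, 4, 1, 1, 1, 5, 2, 4, 0, 0, 0, 5, 1, 3, 1, 1, 1] : List ℕ), 1).2] i = i :=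
  Fn.fix_of_rangeOK (Fn.rangeOK_step hm37_14 rfl
    (Fn.rangeOK_step hm37_13 rfl
    (Fn.rangeOK_step hm37_12 rfl
    (Fn.rangeOK_step hm37_11 rfl
    (Fn.rangeOK_step hm37_10 rfl
    (Fn.rangeOK_step hm37_9 rfl
    (Fn.rangeOK_step hm37_8 rfl
    (Fn.rangeOK_step hm37_7 rfl
    (Fn.rangeOK_step hm37_6 rfl
    (Fn.rangeOK_step hm37_5 rfl
    (Fn.rangeOK_step hm37_4 rfl
    (Fn.rangeOK_step hm37_3 rfl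
    (Fn.rangeOK_step hm37_2 rfl
    (Fn.rangeOK_step hm37_1 rfl
    (Fn.rangeOK_step hm37_0 rfl
    (Fn.rangeOK_start TT [2, 0, 4, 1, 1, 1, 5, 2, 4, 0, 0, 0, 5, 1, 3, 1, 1, 1] 1 tN))))))))))))))))

theorem hfix38 : ∀ i < tN, (Fn.applyW TT (([1, 1, 5, 1, 1, 4, 0, 5, 2, 4, 1, 5, 0, 0, 4, 0, 0, 5] : List ℕ), 1).1)^[(([1, 1, 5, 1, 1, 4, 0, 5, 2, 4, 1, 5, 0, 0, 4, 0, 0, 5] : List ℕ), 1).2] i = i :=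
  Fn.fix_of_rangeOK (Fn.rangeOK_step hm38_14 rfl
    (Fn.rangeOK_step hm38_13 rfl
    (Fn.rangeOK_step hm38_12 rfl
    (Fn.rangeOK_step hm38_11 rfl
    (Fn.rangeOK_step hm38_10 rfl
    (Fn.rangeOK_step hm38_9 rfl
    (Fn.rangeOK_step hm38_8 rfl
    (Fn.rangeOK_step hm38_7 rfl
    (Fn.rangeOK_step hm38_6 rfl
    (Fn.rangeOK_step hm38_5 rfl
    (Fn.rangeOK_step hm38_4 rfl
    (Fn.rangeOK_step hm38_3 rfl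
    (Fn.rangeOK_step hm38_2 rfl
    (Fn.rangeOK_step hm38_1 rfl
    (Fn.rangeOK_step hm38_0 rfl
    (Fn.rangeOK_start TT [1, 1, 5, 1, 1, 4, 0, 5, 2, 4, 1, 5, 0, 0, 4, 0, 0, 5] 1 tN))))))))))))))))

theorem hfix39 : ∀ i < tN, (Fn.applyW TT (([0, 4, 0, 4, 0, 2, 1, 1, 2, 0, 0, 3, 1, 5, 1, 5, 1, 5, 5] : List ℕ), 1).1)^[(([0, 4, 0, 4, 0, 2, 1, 1, 2, 0, 0, 3, 1, 5, 1, 5, 1, 5, 5] : List ℕ), 1).2] i = i :=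
  Fn.fix_of_rangeOK (Fn.rangeOK_step hm39_15 rfl
    (Fn.rangeOK_step hm39_14 rfl
    (Fn.rangeOK_step hm39_13 rfl
    (Fn.rangeOK_step hm39_12 rfl
    (Fn.rangeOK_step hm39_11 rfl
    (Fn.rangeOK_step hm39_10 rfl
    (Fn.rangeOK_step hm39_9 rfl
    (Fn.rangeOK_step hm39_8 rfl
    (Fn.rangeOK_step hm39_7 rfl
    (Fn.rangeOK_step hm39_6 rfl
    (Fn.rangeOK_step hm39_5 rfl
    (Fn.rangeOK_step hm39_4 rfl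
    (Fn.rangeOK_step hm39_3 rfl
    (Fn.rangeOK_step hm39_2 rfl
    (Fn.rangeOK_step hm39_1 rfl
    (Fn.rangeOK_step hm39_0 rfl
    (Fn.rangeOK_start TT [0, 4, 0, 4, 0, 2, 1, 1, 2, 0, 0, 3, 1, 5, 1, 5, 1, 5, 5] 1 tN)))))))))))))))))

theorem hfix40 : ∀ i < tN, (Fn.applyW TT (([3, 3, 4, 0, 5, 2, 2, 1, 2, 0, 3, 3, 4, 1, 5, 2, 2, 0, 0] : List ℕ), 1).1)^[(([3, 3, 4, 0, 5, 2, 2, 1, 2, 0, 3, 3, 4, 1, 5, 2, 2, 0, 0] : List ℕ), 1).2] i = i :=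
  Fn.fix_of_rangeOK (Fn.rangeOK_step hm40_15 rfl
    (Fn.rangeOK_step hm40_14 rfl
    (Fn.rangeOK_step hm40_13 rfl
    (Fn.rangeOK_step hm40_12 rfl
    (Fn.rangeOK_step hm40_11 rfl
    (Fn.rangeOK_step hm40_10 rfl
    (Fn.rangeOK_step hm40_9 rfl
    (Fn.rangeOK_step hm40_8 rfl
    (Fn.rangeOK_step hm40_7 rfl
    (Fn.rangeOK_step hm40_6 rfl
    (Fn.rangeOK_step hm40_5 rfl
    (Fn.rangeOK_step hm40_4 rfl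
    (Fn.rangeOK_step hm40_3 rfl
    (Fn.rangeOK_step hm40_2 rfl
    (Fn.rangeOK_step hm40_1 rfl
    (Fn.rangeOK_step hm40_0 rfl
    (Fn.rangeOK_start TT [3, 3, 4, 0, 5, 2, 2, 1, 2, 0, 3, 3, 4, 1, 5, 2, 2, 0, 0] 1 tN)))))))))))))))))

theorem hfix41 : ∀ i < tN, (Fn.applyW TT (([0, 4, 0, 4, 0, 3, 0, 0, 2, 1, 1, 2, 1, 5, 1, 5, 1, 5, 5] : List ℕ), 1).1)^[(([0, 4, 0, 4, 0, 3, 0, 0, 2, 1, 1, 2, 1, 5, 1, 5, 1, 5, 5] : List ℕ), 1).2] i = i :=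
  Fn.fix_of_rangeOK (Fn.rangeOK_step hm41_15 rfl
    (Fn.rangeOK_step hm41_14 rfl
    (Fn.rangeOK_step hm41_13 rfl
    (Fn.rangeOK_step hm41_12 rfl
    (Fn.rangeOK_step hm41_11 rfl
    (Fn.rangeOK_step hm41_10 rfl
    (Fn.rangeOK_step hm41_9 rfl
    (Fn.rangeOK_step hm41_8 rfl
    (Fn.rangeOK_step hm41_7 rfl
    (Fn.rangeOK_step hm41_6 rfl
    (Fn.rangeOK_step hm41_5 rfl
    (Fn.rangeOK_step hm41_4 rfl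
    (Fn.rangeOK_step hm41_3 rfl
    (Fn.rangeOK_step hm41_2 rfl
    (Fn.rangeOK_step hm41_1 rfl
    (Fn.rangeOK_step hm41_0 rfl
    (Fn.rangeOK_start TT [0, 4, 0, 4, 0, 3, 0, 0, 2, 1, 1, 2, 1, 5, 1, 5, 1, 5, 5] 1 tN)))))))))))))))))

theorem hfix42 : ∀ i < tN, (Fn.applyW TT (([0, 2, 1, 5, 1, 5, 0, 0, 2, 1, 1, 4, 0, 4, 0, 3, 1, 5, 5] : List ℕ), 1).1)^[(([0, 2, 1, 5, 1, 5, 0, 0, 2, 1, 1, 4, 0, 4, 0, 3, 1, 5, 5] : List ℕ), 1).2] i = i :=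
  Fn.fix_of_rangeOK (Fn.rangeOK_step hm42_15 rfl
    (Fn.rangeOK_step hm42_14 rfl
    (Fn.rangeOK_step hm42_13 rfl
    (Fn.rangeOK_step hm42_12 rfl
    (Fn.rangeOK_step hm42_11 rfl
    (Fn.rangeOK_step hm42_10 rfl
    (Fn.rangeOK_step hm42_9 rfl
    (Fn.rangeOK_step hm42_8 rfl
    (Fn.rangeOK_step hm42_7 rfl
    (Fn.rangeOK_step hm42_6 rfl
    (Fn.rangeOK_step hm42_5 rfl
    (Fn.rangeOK_step hm42_4 rfl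
    (Fn.rangeOK_step hm42_3 rfl
    (Fn.rangeOK_step hm42_2 rfl
    (Fn.rangeOK_step hm42_1 rfl
    (Fn.rangeOK_step hm42_0 rfl
    (Fn.rangeOK_start TT [0, 2, 1, 5, 1, 5, 0, 0, 2, 1, 1, 4, 0, 4, 0, 3, 1, 5, 5] 1 tN)))))))))))))))))

theorem hfix43 : ∀ i < tN, (Fn.applyW TT (([0, 3, 4, 1, 2, 0, 3, 4, 1, 2, 0, 5, 2, 1, 3, 0, 5, 2, 1, 3] : List ℕ), 1).1)^[(([0, 3, 4, 1, 2, 0, 3, 4, 1, 2, 0, 5, 2, 1, 3, 0, 5, 2, 1, 3] : List ℕ), 1).2] i = i :=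
  Fn.fix_of_rangeOK (Fn.rangeOK_step hm43_16 rfl
    (Fn.rangeOK_step hm43_15 rfl
    (Fn.rangeOK_step hm43_14 rfl
    (Fn.rangeOK_step hm43_13 rfl
    (Fn.rangeOK_step hm43_12 rfl
    (Fn.rangeOK_step hm43_11 rfl
    (Fn.rangeOK_step hm43_10 rfl
    (Fn.rangeOK_step hm43_9 rfl
    (Fn.rangeOK_step hm43_8 rfl
    (Fn.rangeOK_step hm43_7 rfl
    (Fn.rangeOK_step hm43_6 rfl
    (Fn.rangeOK_step hm43_5 rfl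
    (Fn.rangeOK_step hm43_4 rfl
    (Fn.rangeOK_step hm43_3 rfl
    (Fn.rangeOK_step hm43_2 rfl
    (Fn.rangeOK_step hm43_1 rfl
    (Fn.rangeOK_step hm43_0 rfl
    (Fn.rangeOK_start TT [0, 3, 4, 1, 2, 0, 3, 4, 1, 2, 0, 5, 2, 1, 3, 0, 5, 2, 1, 3] 1 tN))))))))))))))))))

theorem hfix44 : ∀ i < tN, (Fn.applyW TT (([4, 2, 1, 1, 2, 5, 0, 0, 0, 2, 1, 1, 1, 4, 3, 0, 0, 3, 5, 1] : List ℕ), 1).1)^[(([4, 2, 1, 1, 2, 5, 0, 0, 0, 2, 1, 1, 1, 4, 3, 0, 0, 3, 5, 1] : List ℕ), 1).2] i = i :=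
  Fn.fix_of_rangeOK (Fn.rangeOK_step hm44_16 rfl
    (Fn.rangeOK_step hm44_15 rfl
    (Fn.rangeOK_step hm44_14 rfl
    (Fn.rangeOK_step hm44_13 rfl
    (Fn.rangeOK_step hm44_12 rfl
    (Fn.rangeOK_step hm44_11 rfl
    (Fn.rangeOK_step hm44_10 rfl
    (Fn.rangeOK_step hm44_9 rfl
    (Fn.rangeOK_step hm44_8 rfl
    (Fn.rangeOK_step hm44_7 rfl
    (Fn.rangeOK_step hm44_6 rfl
    (Fn.rangeOK_step hm44_5 rfl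
    (Fn.rangeOK_step hm44_4 rfl
    (Fn.rangeOK_step hm44_3 rfl
    (Fn.rangeOK_step hm44_2 rfl
    (Fn.rangeOK_step hm44_1 rfl
    (Fn.rangeOK_step hm44_0 rfl
    (Fn.rangeOK_start TT [4, 2, 1, 1, 2, 5, 0, 0, 0, 2, 1, 1, 1, 4, 3, 0, 0, 3, 5, 1] 1 tN))))))))))))))))))

theorem hfix45 : ∀ i < tN, (Fn.applyW TT (([0, 4, 1, 3, 4, 2, 0, 4, 0, 2, 1, 5, 1, 3, 5, 2, 0, 5, 1, 5] : List ℕ), 1).1)^[(([0, 4, 1, 3, 4, 2, 0, 4, 0, 2, 1, 5, 1, 3, 5, 2, 0, 5, 1, 5] : List ℕ), 1).2] i = i :=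
  Fn.fix_of_rangeOK (Fn.rangeOK_step hm45_16 rfl
    (Fn.rangeOK_step hm45_15 rfl
    (Fn.rangeOK_step hm45_14 rfl
    (Fn.rangeOK_step hm45_13 rfl
    (Fn.rangeOK_step hm45_12 rfl
    (Fn.rangeOK_step hm45_11 rfl
    (Fn.rangeOK_step hm45_10 rfl
    (Fn.rangeOK_step hm45_9 rfl
    (Fn.rangeOK_step hm45_8 rfl
    (Fn.rangeOK_step hm45_7 rfl
    (Fn.rangeOK_step hm45_6 rfl
    (Fn.rangeOK_step hm45_5 rfl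
    (Fn.rangeOK_step hm45_4 rfl
    (Fn.rangeOK_step hm45_3 rfl
    (Fn.rangeOK_step hm45_2 rfl
    (Fn.rangeOK_step hm45_1 rfl
    (Fn.rangeOK_step hm45_0 rfl
    (Fn.rangeOK_start TT [0, 4, 1, 3, 4, 2, 0, 4, 0, 2, 1, 5, 1, 3, 5, 2, 0, 5, 1, 5] 1 tN))))))))))))))))))

theorem hfix46 : ∀ i < tN, (Fn.applyW TT (([1, 3, 4, 1, 3, 5, 0, 4, 0, 2, 1, 5, 1, 4, 2, 0, 5, 2, 0, 3] : List ℕ), 1).1)^[(([1, 3, 4, 1, 3, 5, 0, 4, 0, 2, 1, 5, 1, 4, 2, 0, 5, 2, 0, 3] : List ℕ), 1).2] i = i :=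
  Fn.fix_of_rangeOK (Fn.rangeOK_step hm46_16 rfl
    (Fn.rangeOK_step hm46_15 rfl
    (Fn.rangeOK_step hm46_14 rfl
    (Fn.rangeOK_step hm46_13 rfl
    (Fn.rangeOK_step hm46_12 rfl
    (Fn.rangeOK_step hm46_11 rfl
    (Fn.rangeOK_step hm46_10 rfl
    (Fn.rangeOK_step hm46_9 rfl
    (Fn.rangeOK_step hm46_8 rfl
    (Fn.rangeOK_step hm46_7 rfl
    (Fn.rangeOK_step hm46_6 rfl
    (Fn.rangeOK_step hm46_5 rfl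
    (Fn.rangeOK_step hm46_4 rfl
    (Fn.rangeOK_step hm46_3 rfl
    (Fn.rangeOK_step hm46_2 rfl
    (Fn.rangeOK_step hm46_1 rfl
    (Fn.rangeOK_step hm46_0 rfl
    (Fn.rangeOK_start TT [1, 3, 4, 1, 3, 5, 0, 4, 0, 2, 1, 5, 1, 4, 2, 0, 5, 2, 0, 3] 1 tN))))))))))))))))))

theorem hfix47 : ∀ i < tN, (Fn.applyW TT (([5, 2, 1, 3, 0, 5, 2, 1, 3, 0, 2, 0, 3, 4, 1, 2, 0, 3, 4, 1] : List ℕ), 1).1)^[(([5, 2, 1, 3, 0, 5, 2, 1, 3, 0, 2, 0, 3, 4, 1, 2, 0, 3, 4, 1] : List ℕ), 1).2] i = i :=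
  Fn.fix_of_rangeOK (Fn.rangeOK_step hm47_16 rfl
    (Fn.rangeOK_step hm47_15 rfl
    (Fn.rangeOK_step hm47_14 rfl
    (Fn.rangeOK_step hm47_13 rfl
    (Fn.rangeOK_step hm47_12 rfl
    (Fn.rangeOK_step hm47_11 rfl
    (Fn.rangeOK_step hm47_10 rfl
    (Fn.rangeOK_step hm47_9 rfl
    (Fn.rangeOK_step hm47_8 rfl
    (Fn.rangeOK_step hm47_7 rfl
    (Fn.rangeOK_step hm47_6 rfl
    (Fn.rangeOK_step hm47_5 rfl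
    (Fn.rangeOK_step hm47_4 rfl
    (Fn.rangeOK_step hm47_3 rfl
    (Fn.rangeOK_step hm47_2 rfl
    (Fn.rangeOK_step hm47_1 rfl
    (Fn.rangeOK_step hm47_0 rfl
    (Fn.rangeOK_start TT [5, 2, 1, 3, 0, 5, 2, 1, 3, 0, 2, 0, 3, 4, 1, 2, 0, 3, 4, 1] 1 tN))))))))))))))))))

theorem hfix48 : ∀ i < tN, (Fn.applyW TT (([1, 2, 2, 4, 0, 3, 3, 1, 2, 0, 3, 0, 2, 2, 1, 5, 3, 3, 0, 2] : List ℕ), 1).1)^[(([1, 2, 2, 4, 0, 3, 3, 1, 2, 0, 3, 0, 2, 2, 1, 5, 3, 3, 0, 2] : List ℕ), 1).2] i = i :=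
  Fn.fix_of_rangeOK (Fn.rangeOK_step hm48_16 rfl
    (Fn.rangeOK_step hm48_15 rfl
    (Fn.rangeOK_step hm48_14 rfl
    (Fn.rangeOK_step hm48_13 rfl
    (Fn.rangeOK_step hm48_12 rfl
    (Fn.rangeOK_step hm48_11 rfl
    (Fn.rangeOK_step hm48_10 rfl
    (Fn.rangeOK_step hm48_9 rfl
    (Fn.rangeOK_step hm48_8 rfl
    (Fn.rangeOK_step hm48_7 rfl
    (Fn.rangeOK_step hm48_6 rfl
    (Fn.rangeOK_step hm48_5 rfl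
    (Fn.rangeOK_step hm48_4 rfl
    (Fn.rangeOK_step hm48_3 rfl
    (Fn.rangeOK_step hm48_2 rfl
    (Fn.rangeOK_step hm48_1 rfl
    (Fn.rangeOK_step hm48_0 rfl
    (Fn.rangeOK_start TT [1, 2, 2, 4, 0, 3, 3, 1, 2, 0, 3, 0, 2, 2, 1, 5, 3, 3, 0, 2] 1 tN))))))))))))))))))

theorem hfix49 : ∀ i < tN, (Fn.applyW TT (([5, 2, 1, 3, 4, 3, 3, 1, 5, 0, 4, 0, 2, 2, 5, 2, 0, 3, 4, 0] : List ℕ), 1).1)^[(([5, 2, 1, 3, 4, 3, 3, 1, 5, 0, 4, 0, 2, 2, 5, 2, 0, 3, 4, 0] : List ℕ), 1).2] i = i :=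
  Fn.fix_of_rangeOK (Fn.rangeOK_step hm49_16 rfl
    (Fn.rangeOK_step hm49_15 rfl
    (Fn.rangeOK_step hm49_14 rfl
    (Fn.rangeOK_step hm49_13 rfl
    (Fn.rangeOK_step hm49_12 rfl
    (Fn.rangeOK_step hm49_11 rfl
    (Fn.rangeOK_step hm49_10 rfl
    (Fn.rangeOK_step hm49_9 rfl
    (Fn.rangeOK_step hm49_8 rfl
    (Fn.rangeOK_step hm49_7 rfl
    (Fn.rangeOK_step hm49_6 rfl
    (Fn.rangeOK_step hm49_5 rfl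
    (Fn.rangeOK_step hm49_4 rfl
    (Fn.rangeOK_step hm49_3 rfl
    (Fn.rangeOK_step hm49_2 rfl
    (Fn.rangeOK_step hm49_1 rfl
    (Fn.rangeOK_step hm49_0 rfl
    (Fn.rangeOK_start TT [5, 2, 1, 3, 4, 3, 3, 1, 5, 0, 4, 0, 2, 2, 5, 2, 0, 3, 4, 0] 1 tN))))))))))))))))))

theorem hfix50 : ∀ i < tN, (Fn.applyW TT (([5, 1, 5, 1, 5, 1, 5, 1, 5, 0, 4, 0, 4, 0, 4, 0, 4, 0, 4, 1] : List ℕ), 1).1)^[(([5, 1, 5, 1, 5, 1, 5, 1, 5, 0, 4, 0, 4, 0, 4, 0, 4, 0, 4, 1] : List ℕ), 1).2] i = i :=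
  Fn.fix_of_rangeOK (Fn.rangeOK_step hm50_16 rfl
    (Fn.rangeOK_step hm50_15 rfl
    (Fn.rangeOK_step hm50_14 rfl
    (Fn.rangeOK_step hm50_13 rfl
    (Fn.rangeOK_step hm50_12 rfl
    (Fn.rangeOK_step hm50_11 rfl
    (Fn.rangeOK_step hm50_10 rfl
    (Fn.rangeOK_step hm50_9 rfl
    (Fn.rangeOK_step hm50_8 rfl
    (Fn.rangeOK_step hm50_7 rfl
    (Fn.rangeOK_step hm50_6 rfl
    (Fn.rangeOK_step hm50_5 rfl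
    (Fn.rangeOK_step hm50_4 rfl
    (Fn.rangeOK_step hm50_3 rfl
    (Fn.rangeOK_step hm50_2 rfl
    (Fn.rangeOK_step hm50_1 rfl
    (Fn.rangeOK_step hm50_0 rfl
    (Fn.rangeOK_start TT [5, 1, 5, 1, 5, 1, 5, 1, 5, 0, 4, 0, 4, 0, 4, 0, 4, 0, 4, 1] 1 tN))))))))))))))))))

theorem hfix51 : ∀ i < tN, (Fn.applyW TT (([0, 4, 3, 0, 3, 1, 2, 0, 5, 0, 4, 1, 3, 0, 2, 1, 2, 5, 1, 3] : List ℕ), 1).1)^[(([0, 4, 3, 0, 3, 1, 2, 0, 5, 0, 4, 1, 3, 0, 2, 1, 2, 5, 1, 3] : List ℕ), 1).2] i = i :=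
  Fn.fix_of_rangeOK (Fn.rangeOK_step hm51_16 rfl
    (Fn.rangeOK_step hm51_15 rfl
    (Fn.rangeOK_step hm51_14 rfl
    (Fn.rangeOK_step hm51_13 rfl
    (Fn.rangeOK_step hm51_12 rfl
    (Fn.rangeOK_step hm51_11 rfl
    (Fn.rangeOK_step hm51_10 rfl
    (Fn.rangeOK_step hm51_9 rfl
    (Fn.rangeOK_step hm51_8 rfl
    (Fn.rangeOK_step hm51_7 rfl
    (Fn.rangeOK_step hm51_6 rfl
    (Fn.rangeOK_step hm51_5 rfl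
    (Fn.rangeOK_step hm51_4 rfl
    (Fn.rangeOK_step hm51_3 rfl
    (Fn.rangeOK_step hm51_2 rfl
    (Fn.rangeOK_step hm51_1 rfl
    (Fn.rangeOK_step hm51_0 rfl
    (Fn.rangeOK_start TT [0, 4, 3, 0, 3, 1, 2, 0, 5, 0, 4, 1, 3, 0, 2, 1, 2, 5, 1, 3] 1 tN))))))))))))))))))

theorem hfix52 : ∀ i < tN, (Fn.applyW TT (([1, 1, 1, 4, 3, 0, 0, 3, 5, 0, 4, 2, 1, 1, 2, 5, 0, 0, 0, 3] : List ℕ), 1).1)^[(([1, 1, 1, 4, 3, 0, 0, 3, 5, 0, 4, 2, 1, 1, 2, 5, 0, 0, 0, 3] : List ℕ), 1).2] i = i :=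
  Fn.fix_of_rangeOK (Fn.rangeOK_step hm52_16 rfl
    (Fn.rangeOK_step hm52_15 rfl
    (Fn.rangeOK_step hm52_14 rfl
    (Fn.rangeOK_step hm52_13 rfl
    (Fn.rangeOK_step hm52_12 rfl
    (Fn.rangeOK_step hm52_11 rfl
    (Fn.rangeOK_step hm52_10 rfl
    (Fn.rangeOK_step hm52_9 rfl
    (Fn.rangeOK_step hm52_8 rfl
    (Fn.rangeOK_step hm52_7 rfl
    (Fn.rangeOK_step hm52_6 rfl
    (Fn.rangeOK_step hm52_5 rfl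
    (Fn.rangeOK_step hm52_4 rfl
    (Fn.rangeOK_step hm52_3 rfl
    (Fn.rangeOK_step hm52_2 rfl
    (Fn.rangeOK_step hm52_1 rfl
    (Fn.rangeOK_step hm52_0 rfl
    (Fn.rangeOK_start TT [1, 1, 1, 4, 3, 0, 0, 3, 5, 0, 4, 2, 1, 1, 2, 5, 0, 0, 0, 3] 1 tN))))))))))))))))))

theorem hfix53 : ∀ i < tN, (Fn.applyW TT (([4, 4, 0, 4, 7, 5, 1, 1, 4, 0, 0, 4, 6, 5, 1, 5, 5, 2] : List ℕ), 1).1)^[(([4, 4, 0, 4, 7, 5, 1, 1, 4, 0, 0, 4, 6, 5, 1, 5, 5, 2] : List ℕ), 1).2] i = i :=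
  Fn.fix_of_rangeOK (Fn.rangeOK_step hm53_14 rfl
    (Fn.rangeOK_step hm53_13 rfl
    (Fn.rangeOK_step hm53_12 rfl
    (Fn.rangeOK_step hm53_11 rfl
    (Fn.rangeOK_step hm53_10 rfl
    (Fn.rangeOK_step hm53_9 rfl
    (Fn.rangeOK_step hm53_8 rfl
    (Fn.rangeOK_step hm53_7 rfl
    (Fn.rangeOK_step hm53_6 rfl
    (Fn.rangeOK_step hm53_5 rfl
    (Fn.rangeOK_step hm53_4 rfl
    (Fn.rangeOK_step hm53_3 rfl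
    (Fn.rangeOK_step hm53_2 rfl
    (Fn.rangeOK_step hm53_1 rfl
    (Fn.rangeOK_step hm53_0 rfl
    (Fn.rangeOK_start TT [4, 4, 0, 4, 7, 5, 1, 1, 4, 0, 0, 4, 6, 5, 1, 5, 5, 2] 1 tN))))))))))))))))

theorem hfix54 : ∀ i < tN, (Fn.applyW TT (([0, 4, 7, 0, 5, 6, 1, 1, 6, 0, 0, 7, 4, 1, 6, 5, 1, 7] : List ℕ), 1).1)^[(([0, 4, 7, 0, 5, 6, 1, 1, 6, 0, 0, 7, 4, 1, 6, 5, 1, 7] : List ℕ), 1).2] i = i :=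
  Fn.fix_of_rangeOK (Fn.rangeOK_step hm54_14 rfl
    (Fn.rangeOK_step hm54_13 rfl
    (Fn.rangeOK_step hm54_12 rfl
    (Fn.rangeOK_step hm54_11 rfl
    (Fn.rangeOK_step hm54_10 rfl
    (Fn.rangeOK_step hm54_9 rfl
    (Fn.rangeOK_step hm54_8 rfl
    (Fn.rangeOK_step hm54_7 rfl
    (Fn.rangeOK_step hm54_6 rfl
    (Fn.rangeOK_step hm54_5 rfl
    (Fn.rangeOK_step hm54_4 rfl
    (Fn.rangeOK_step hm54_3 rfl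
    (Fn.rangeOK_step hm54_2 rfl
    (Fn.rangeOK_step hm54_1 rfl
    (Fn.rangeOK_step hm54_0 rfl
    (Fn.rangeOK_start TT [0, 4, 7, 0, 5, 6, 1, 1, 6, 0, 0, 7, 4, 1, 6, 5, 1, 7] 1 tN))))))))))))))))

theorem hfix55 : ∀ i < tN, (Fn.applyW TT (([0, 0, 3, 0, 3, 0, 3, 1, 6, 0, 2, 1, 2, 1, 2, 1, 1, 7] : List ℕ), 1).1)^[(([0, 0, 3, 0, 3, 0, 3, 1, 6, 0, 2, 1, 2, 1, 2, 1, 1, 7] : List ℕ), 1).2] i = i :=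
  Fn.fix_of_rangeOK (Fn.rangeOK_step hm55_14 rfl
    (Fn.rangeOK_step hm55_13 rfl
    (Fn.rangeOK_step hm55_12 rfl
    (Fn.rangeOK_step hm55_11 rfl
    (Fn.rangeOK_step hm55_10 rfl
    (Fn.rangeOK_step hm55_9 rfl
    (Fn.rangeOK_step hm55_8 rfl
    (Fn.rangeOK_step hm55_7 rfl
    (Fn.rangeOK_step hm55_6 rfl
    (Fn.rangeOK_step hm55_5 rfl
    (Fn.rangeOK_step hm55_4 rfl
    (Fn.rangeOK_step hm55_3 rfl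
    (Fn.rangeOK_step hm55_2 rfl
    (Fn.rangeOK_step hm55_1 rfl
    (Fn.rangeOK_step hm55_0 rfl
    (Fn.rangeOK_start TT [0, 0, 3, 0, 3, 0, 3, 1, 6, 0, 2, 1, 2, 1, 2, 1, 1, 7] 1 tN))))))))))))))))

theorem hfix56 : ∀ i < tN, (Fn.applyW TT (([7, 2, 5, 6, 3, 0, 3, 1, 2, 0, 2, 1, 2, 7, 4, 3, 6, 1] : List ℕ), 1).1)^[(([7, 2, 5, 6, 3, 0, 3, 1, 2, 0, 2, 1, 2, 7, 4, 3, 6, 1] : List ℕ), 1).2] i = i :=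
  Fn.fix_of_rangeOK (Fn.rangeOK_step hm56_14 rfl
    (Fn.rangeOK_step hm56_13 rfl
    (Fn.rangeOK_step hm56_12 rfl
    (Fn.rangeOK_step hm56_11 rfl
    (Fn.rangeOK_step hm56_10 rfl
    (Fn.rangeOK_step hm56_9 rfl
    (Fn.rangeOK_step hm56_8 rfl
    (Fn.rangeOK_step hm56_7 rfl
    (Fn.rangeOK_step hm56_6 rfl
    (Fn.rangeOK_step hm56_5 rfl
    (Fn.rangeOK_step hm56_4 rfl
    (Fn.rangeOK_step hm56_3 rfl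
    (Fn.rangeOK_step hm56_2 rfl
    (Fn.rangeOK_step hm56_1 rfl
    (Fn.rangeOK_step hm56_0 rfl
    (Fn.rangeOK_start TT [7, 2, 5, 6, 3, 0, 3, 1, 2, 0, 2, 1, 2, 7, 4, 3, 6, 1] 1 tN))))))))))))))))

theorem hfix57 : ∀ i < tN, (Fn.applyW TT (([0, 6, 1, 4, 7, 0, 5, 1, 4, 0, 4, 1, 6, 5, 0, 7, 1, 5] : List ℕ), 1).1)^[(([0, 6, 1, 4, 7, 0, 5, 1, 4, 0, 4, 1, 6, 5, 0, 7, 1, 5] : List ℕ), 1).2] i = i :=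
  Fn.fix_of_rangeOK (Fn.rangeOK_step hm57_14 rfl
    (Fn.rangeOK_step hm57_13 rfl
    (Fn.rangeOK_step hm57_12 rfl
    (Fn.rangeOK_step hm57_11 rfl
    (Fn.rangeOK_step hm57_10 rfl
    (Fn.rangeOK_step hm57_9 rfl
    (Fn.rangeOK_step hm57_8 rfl
    (Fn.rangeOK_step hm57_7 rfl
    (Fn.rangeOK_step hm57_6 rfl
    (Fn.rangeOK_step hm57_5 rfl
    (Fn.rangeOK_step hm57_4 rfl
    (Fn.rangeOK_step hm57_3 rfl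
    (Fn.rangeOK_step hm57_2 rfl
    (Fn.rangeOK_step hm57_1 rfl
    (Fn.rangeOK_step hm57_0 rfl
    (Fn.rangeOK_start TT [0, 6, 1, 4, 7, 0, 5, 1, 4, 0, 4, 1, 6, 5, 0, 7, 1, 5] 1 tN))))))))))))))))

theorem hfix58 : ∀ i < tN, (Fn.applyW TT (([2, 4, 0, 7, 2, 1, 6, 0, 2, 1, 7, 0, 3, 6, 1, 5, 3, 1] : List ℕ), 1).1)^[(([2, 4, 0, 7, 2, 1, 6, 0, 2, 1, 7, 0, 3, 6, 1, 5, 3, 1] : List ℕ), 1).2] i = i :=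
  Fn.fix_of_rangeOK (Fn.rangeOK_step hm58_14 rfl
    (Fn.rangeOK_step hm58_13 rfl
    (Fn.rangeOK_step hm58_12 rfl
    (Fn.rangeOK_step hm58_11 rfl
    (Fn.rangeOK_step hm58_10 rfl
    (Fn.rangeOK_step hm58_9 rfl
    (Fn.rangeOK_step hm58_8 rfl
    (Fn.rangeOK_step hm58_7 rfl
    (Fn.rangeOK_step hm58_6 rfl
    (Fn.rangeOK_step hm58_5 rfl
    (Fn.rangeOK_step hm58_4 rfl
    (Fn.rangeOK_step hm58_3 rfl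
    (Fn.rangeOK_step hm58_2 rfl
    (Fn.rangeOK_step hm58_1 rfl
    (Fn.rangeOK_step hm58_0 rfl
    (Fn.rangeOK_start TT [2, 4, 0, 7, 2, 1, 6, 0, 2, 1, 7, 0, 3, 6, 1, 5, 3, 1] 1 tN))))))))))))))))

theorem hfix59 : ∀ i < tN, (Fn.applyW TT (([1, 1, 4, 7, 0, 5, 6, 0, 4, 1, 7, 4, 1, 6, 5, 0, 0, 5] : List ℕ), 1).1)^[(([1, 1, 4, 7, 0, 5, 6, 0, 4, 1, 7, 4, 1, 6, 5, 0, 0, 5] : List ℕ), 1).2] i = i :=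
  Fn.fix_of_rangeOK (Fn.rangeOK_step hm59_14 rfl
    (Fn.rangeOK_step hm59_13 rfl
    (Fn.rangeOK_step hm59_12 rfl
    (Fn.rangeOK_step hm59_11 rfl
    (Fn.rangeOK_step hm59_10 rfl
    (Fn.rangeOK_step hm59_9 rfl
    (Fn.rangeOK_step hm59_8 rfl
    (Fn.rangeOK_step hm59_7 rfl
    (Fn.rangeOK_step hm59_6 rfl
    (Fn.rangeOK_step hm59_5 rfl
    (Fn.rangeOK_step hm59_4 rfl
    (Fn.rangeOK_step hm59_3 rfl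
    (Fn.rangeOK_step hm59_2 rfl
    (Fn.rangeOK_step hm59_1 rfl
    (Fn.rangeOK_step hm59_0 rfl
    (Fn.rangeOK_start TT [1, 1, 4, 7, 0, 5, 6, 0, 4, 1, 7, 4, 1, 6, 5, 0, 0, 5] 1 tN))))))))))))))))

theorem hfix60 : ∀ i < tN, (Fn.applyW TT (([2, 4, 7, 0, 5, 6, 1, 3, 6, 2, 0, 7, 4, 1, 6, 5, 3, 7] : List ℕ), 1).1)^[(([2, 4, 7, 0, 5, 6, 1, 3, 6, 2, 0, 7, 4, 1, 6, 5, 3, 7] : List ℕ), 1).2] i = i :=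
  Fn.fix_of_rangeOK (Fn.rangeOK_step hm60_14 rfl
    (Fn.rangeOK_step hm60_13 rfl
    (Fn.rangeOK_step hm60_12 rfl
    (Fn.rangeOK_step hm60_11 rfl
    (Fn.rangeOK_step hm60_10 rfl
    (Fn.rangeOK_step hm60_9 rfl
    (Fn.rangeOK_step hm60_8 rfl
    (Fn.rangeOK_step hm60_7 rfl
    (Fn.rangeOK_step hm60_6 rfl
    (Fn.rangeOK_step hm60_5 rfl
    (Fn.rangeOK_step hm60_4 rfl
    (Fn.rangeOK_step hm60_3 rfl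
    (Fn.rangeOK_step hm60_2 rfl
    (Fn.rangeOK_step hm60_1 rfl
    (Fn.rangeOK_step hm60_0 rfl
    (Fn.rangeOK_start TT [2, 4, 7, 0, 5, 6, 1, 3, 6, 2, 0, 7, 4, 1, 6, 5, 3, 7] 1 tN))))))))))))))))

theorem hfix61 : ∀ i < tN, (Fn.applyW TT (([6, 2, 0, 2, 0, 7, 2, 2, 0, 3, 3, 6, 1, 3, 1, 3, 7, 3] : List ℕ), 1).1)^[(([6, 2, 0, 2, 0, 7, 2, 2, 0, 3, 3, 6, 1, 3, 1, 3, 7, 3] : List ℕ), 1).2] i = i :=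
  Fn.fix_of_rangeOK (Fn.rangeOK_step hm61_14 rfl
    (Fn.rangeOK_step hm61_13 rfl
    (Fn.rangeOK_step hm61_12 rfl
    (Fn.rangeOK_step hm61_11 rfl
    (Fn.rangeOK_step hm61_10 rfl
    (Fn.rangeOK_step hm61_9 rfl
    (Fn.rangeOK_step hm61_8 rfl
    (Fn.rangeOK_step hm61_7 rfl
    (Fn.rangeOK_step hm61_6 rfl
    (Fn.rangeOK_step hm61_5 rfl
    (Fn.rangeOK_step hm61_4 rfl
    (Fn.rangeOK_step hm61_3 rfl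
    (Fn.rangeOK_step hm61_2 rfl
    (Fn.rangeOK_step hm61_1 rfl
    (Fn.rangeOK_step hm61_0 rfl
    (Fn.rangeOK_start TT [6, 2, 0, 2, 0, 7, 2, 2, 0, 3, 3, 6, 1, 3, 1, 3, 7, 3] 1 tN))))))))))))))))

theorem hfix62 : ∀ i < tN, (Fn.applyW TT (([3, 0, 5, 6, 1, 4, 7, 2, 0, 3, 6, 5, 0, 7, 4, 1, 2, 1] : List ℕ), 1).1)^[(([3, 0, 5, 6, 1, 4, 7, 2, 0, 3, 6, 5, 0, 7, 4, 1, 2, 1] : List ℕ), 1).2] i = i :=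
  Fn.fix_of_rangeOK (Fn.rangeOK_step hm62_14 rfl
    (Fn.rangeOK_step hm62_13 rfl
    (Fn.rangeOK_step hm62_12 rfl
    (Fn.rangeOK_step hm62_11 rfl
    (Fn.rangeOK_step hm62_10 rfl
    (Fn.rangeOK_step hm62_9 rfl
    (Fn.rangeOK_step hm62_8 rfl
    (Fn.rangeOK_step hm62_7 rfl
    (Fn.rangeOK_step hm62_6 rfl
    (Fn.rangeOK_step hm62_5 rfl
    (Fn.rangeOK_step hm62_4 rfl
    (Fn.rangeOK_step hm62_3 rfl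
    (Fn.rangeOK_step hm62_2 rfl
    (Fn.rangeOK_step hm62_1 rfl
    (Fn.rangeOK_step hm62_0 rfl
    (Fn.rangeOK_start TT [3, 0, 5, 6, 1, 4, 7, 2, 0, 3, 6, 5, 0, 7, 4, 1, 2, 1] 1 tN))))))))))))))))

theorem hfix63 : ∀ i < tN, (Fn.applyW TT (([3, 0, 5, 6, 1, 4, 7, 2, 4, 3, 6, 5, 0, 7, 4, 1, 2, 5] : List ℕ), 1).1)^[(([3, 0, 5, 6, 1, 4, 7, 2, 4, 3, 6, 5, 0, 7, 4, 1, 2, 5] : List ℕ), 1).2] i = i :=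
  Fn.fix_of_rangeOK (Fn.rangeOK_step hm63_14 rfl
    (Fn.rangeOK_step hm63_13 rfl
    (Fn.rangeOK_step hm63_12 rfl
    (Fn.rangeOK_step hm63_11 rfl
    (Fn.rangeOK_step hm63_10 rfl
    (Fn.rangeOK_step hm63_9 rfl
    (Fn.rangeOK_step hm63_8 rfl
    (Fn.rangeOK_step hm63_7 rfl
    (Fn.rangeOK_step hm63_6 rfl
    (Fn.rangeOK_step hm63_5 rfl
    (Fn.rangeOK_step hm63_4 rfl
    (Fn.rangeOK_step hm63_3 rfl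
    (Fn.rangeOK_step hm63_2 rfl
    (Fn.rangeOK_step hm63_1 rfl
    (Fn.rangeOK_step hm63_0 rfl
    (Fn.rangeOK_start TT [3, 0, 5, 6, 1, 4, 7, 2, 4, 3, 6, 5, 0, 7, 4, 1, 2, 5] 1 tN))))))))))))))))

theorem hfix64 : ∀ i < tN, (Fn.applyW TT (([3, 5, 0, 7, 4, 1, 6, 2, 6, 3, 7, 0, 5, 6, 1, 4, 2, 7] : List ℕ), 1).1)^[(([3, 5, 0, 7, 4, 1, 6, 2, 6, 3, 7, 0, 5, 6, 1, 4, 2, 7] : List ℕ), 1).2] i = i :=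
  Fn.fix_of_rangeOK (Fn.rangeOK_step hm64_14 rfl
    (Fn.rangeOK_step hm64_13 rfl
    (Fn.rangeOK_step hm64_12 rfl
    (Fn.rangeOK_step hm64_11 rfl
    (Fn.rangeOK_step hm64_10 rfl
    (Fn.rangeOK_step hm64_9 rfl
    (Fn.rangeOK_step hm64_8 rfl
    (Fn.rangeOK_step hm64_7 rfl
    (Fn.rangeOK_step hm64_6 rfl
    (Fn.rangeOK_step hm64_5 rfl
    (Fn.rangeOK_step hm64_4 rfl
    (Fn.rangeOK_step hm64_3 rfl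
    (Fn.rangeOK_step hm64_2 rfl
    (Fn.rangeOK_step hm64_1 rfl
    (Fn.rangeOK_step hm64_0 rfl
    (Fn.rangeOK_start TT [3, 5, 0, 7, 4, 1, 6, 2, 6, 3, 7, 0, 5, 6, 1, 4, 2, 7] 1 tN))))))))))))))))

theorem hfix65 : ∀ i < tN, (Fn.applyW TT (([3, 1, 4, 7, 0, 5, 6, 2, 0, 3, 7, 4, 1, 6, 5, 0, 2, 1] : List ℕ), 1).1)^[(([3, 1, 4, 7, 0, 5, 6, 2, 0, 3, 7, 4, 1, 6, 5, 0, 2, 1] : List ℕ), 1).2] i = i :=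
  Fn.fix_of_rangeOK (Fn.rangeOK_step hm65_14 rfl
    (Fn.rangeOK_step hm65_13 rfl
    (Fn.rangeOK_step hm65_12 rfl
    (Fn.rangeOK_step hm65_11 rfl
    (Fn.rangeOK_step hm65_10 rfl
    (Fn.rangeOK_step hm65_9 rfl
    (Fn.rangeOK_step hm65_8 rfl
    (Fn.rangeOK_step hm65_7 rfl
    (Fn.rangeOK_step hm65_6 rfl
    (Fn.rangeOK_step hm65_5 rfl
    (Fn.rangeOK_step hm65_4 rfl
    (Fn.rangeOK_step hm65_3 rfl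
    (Fn.rangeOK_step hm65_2 rfl
    (Fn.rangeOK_step hm65_1 rfl
    (Fn.rangeOK_step hm65_0 rfl
    (Fn.rangeOK_start TT [3, 1, 4, 7, 0, 5, 6, 2, 0, 3, 7, 4, 1, 6, 5, 0, 2, 1] 1 tN))))))))))))))))

theorem hfix66 : ∀ i < tN, (Fn.applyW TT (([3, 1, 4, 7, 0, 5, 6, 2, 4, 3, 7, 4, 1, 6, 5, 0, 2, 5] : List ℕ), 1).1)^[(([3, 1, 4, 7, 0, 5, 6, 2, 4, 3, 7, 4, 1, 6, 5, 0, 2, 5] : List ℕ), 1).2] i = i :=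
  Fn.fix_of_rangeOK (Fn.rangeOK_step hm66_14 rfl
    (Fn.rangeOK_step hm66_13 rfl
    (Fn.rangeOK_step hm66_12 rfl
    (Fn.rangeOK_step hm66_11 rfl
    (Fn.rangeOK_step hm66_10 rfl
    (Fn.rangeOK_step hm66_9 rfl
    (Fn.rangeOK_step hm66_8 rfl
    (Fn.rangeOK_step hm66_7 rfl
    (Fn.rangeOK_step hm66_6 rfl
    (Fn.rangeOK_step hm66_5 rfl
    (Fn.rangeOK_step hm66_4 rfl
    (Fn.rangeOK_step hm66_3 rfl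
    (Fn.rangeOK_step hm66_2 rfl
    (Fn.rangeOK_step hm66_1 rfl
    (Fn.rangeOK_step hm66_0 rfl
    (Fn.rangeOK_start TT [3, 1, 4, 7, 0, 5, 6, 2, 4, 3, 7, 4, 1, 6, 5, 0, 2, 5] 1 tN))))))))))))))))

theorem hfix67 : ∀ i < tN, (Fn.applyW TT (([3, 1, 4, 7, 0, 5, 6, 2, 6, 3, 7, 4, 1, 6, 5, 0, 2, 7] : List ℕ), 1).1)^[(([3, 1, 4, 7, 0, 5, 6, 2, 6, 3, 7, 4, 1, 6, 5, 0, 2, 7] : List ℕ), 1).2] i = i :=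
  Fn.fix_of_rangeOK (Fn.rangeOK_step hm67_14 rfl
    (Fn.rangeOK_step hm67_13 rfl
    (Fn.rangeOK_step hm67_12 rfl
    (Fn.rangeOK_step hm67_11 rfl
    (Fn.rangeOK_step hm67_10 rfl
    (Fn.rangeOK_step hm67_9 rfl
    (Fn.rangeOK_step hm67_8 rfl
    (Fn.rangeOK_step hm67_7 rfl
    (Fn.rangeOK_step hm67_6 rfl
    (Fn.rangeOK_step hm67_5 rfl
    (Fn.rangeOK_step hm67_4 rfl
    (Fn.rangeOK_step hm67_3 rfl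
    (Fn.rangeOK_step hm67_2 rfl
    (Fn.rangeOK_step hm67_1 rfl
    (Fn.rangeOK_step hm67_0 rfl
    (Fn.rangeOK_start TT [3, 1, 4, 7, 0, 5, 6, 2, 6, 3, 7, 4, 1, 6, 5, 0, 2, 7] 1 tN))))))))))))))))

theorem hfix68 : ∀ i < tN, (Fn.applyW TT (([4, 6, 5, 0, 7, 4, 1, 5, 6, 4, 0, 5, 6, 1, 4, 7, 5, 7] : List ℕ), 1).1)^[(([4, 6, 5, 0, 7, 4, 1, 5, 6, 4, 0, 5, 6, 1, 4, 7, 5, 7] : List ℕ), 1).2] i = i :=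
  Fn.fix_of_rangeOK (Fn.rangeOK_step hm68_14 rfl
    (Fn.rangeOK_step hm68_13 rfl
    (Fn.rangeOK_step hm68_12 rfl
    (Fn.rangeOK_step hm68_11 rfl
    (Fn.rangeOK_step hm68_10 rfl
    (Fn.rangeOK_step hm68_9 rfl
    (Fn.rangeOK_step hm68_8 rfl
    (Fn.rangeOK_step hm68_7 rfl
    (Fn.rangeOK_step hm68_6 rfl
    (Fn.rangeOK_step hm68_5 rfl
    (Fn.rangeOK_step hm68_4 rfl
    (Fn.rangeOK_step hm68_3 rfl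
    (Fn.rangeOK_step hm68_2 rfl
    (Fn.rangeOK_step hm68_1 rfl
    (Fn.rangeOK_step hm68_0 rfl
    (Fn.rangeOK_start TT [4, 6, 5, 0, 7, 4, 1, 5, 6, 4, 0, 5, 6, 1, 4, 7, 5, 7] 1 tN))))))))))))))))

theorem hfix69 : ∀ i < tN, (Fn.applyW TT (([4, 3, 0, 3, 0, 3, 0, 5, 6, 4, 1, 2, 1, 2, 1, 2, 5, 7] : List ℕ), 1).1)^[(([4, 3, 0, 3, 0, 3, 0, 5, 6, 4, 1, 2, 1, 2, 1, 2, 5, 7] : List ℕ), 1).2] i = i :=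
  Fn.fix_of_rangeOK (Fn.rangeOK_step hm69_14 rfl
    (Fn.rangeOK_step hm69_13 rfl
    (Fn.rangeOK_step hm69_12 rfl
    (Fn.rangeOK_step hm69_11 rfl
    (Fn.rangeOK_step hm69_10 rfl
    (Fn.rangeOK_step hm69_9 rfl
    (Fn.rangeOK_step hm69_8 rfl
    (Fn.rangeOK_step hm69_7 rfl
    (Fn.rangeOK_step hm69_6 rfl
    (Fn.rangeOK_step hm69_5 rfl
    (Fn.rangeOK_step hm69_4 rfl
    (Fn.rangeOK_step hm69_3 rfl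
    (Fn.rangeOK_step hm69_2 rfl
    (Fn.rangeOK_step hm69_1 rfl
    (Fn.rangeOK_step hm69_0 rfl
    (Fn.rangeOK_start TT [4, 3, 0, 3, 0, 3, 0, 5, 6, 4, 1, 2, 1, 2, 1, 2, 5, 7] 1 tN))))))))))))))))

theorem hfix70 : ∀ i < tN, (Fn.applyW TT (([4, 7, 4, 1, 6, 5, 0, 5, 0, 4, 1, 4, 7, 0, 5, 6, 5, 1] : List ℕ), 1).1)^[(([4, 7, 4, 1, 6, 5, 0, 5, 0, 4, 1, 4, 7, 0, 5, 6, 5, 1] : List ℕ), 1).2] i = i :=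
  Fn.fix_of_rangeOK (Fn.rangeOK_step hm70_14 rfl
    (Fn.rangeOK_step hm70_13 rfl
    (Fn.rangeOK_step hm70_12 rfl
    (Fn.rangeOK_step hm70_11 rfl
    (Fn.rangeOK_step hm70_10 rfl
    (Fn.rangeOK_step hm70_9 rfl
    (Fn.rangeOK_step hm70_8 rfl
    (Fn.rangeOK_step hm70_7 rfl
    (Fn.rangeOK_step hm70_6 rfl
    (Fn.rangeOK_step hm70_5 rfl
    (Fn.rangeOK_step hm70_4 rfl
    (Fn.rangeOK_step hm70_3 rfl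
    (Fn.rangeOK_step hm70_2 rfl
    (Fn.rangeOK_step hm70_1 rfl
    (Fn.rangeOK_step hm70_0 rfl
    (Fn.rangeOK_start TT [4, 7, 4, 1, 6, 5, 0, 5, 0, 4, 1, 4, 7, 0, 5, 6, 5, 1] 1 tN))))))))))))))))

theorem hfix71 : ∀ i < tN, (Fn.applyW TT (([4, 7, 4, 1, 6, 5, 0, 5, 6, 4, 1, 4, 7, 0, 5, 6, 5, 7] : List ℕ), 1).1)^[(([4, 7, 4, 1, 6, 5, 0, 5, 6, 4, 1, 4, 7, 0, 5, 6, 5, 7] : List ℕ), 1).2] i = i :=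
  Fn.fix_of_rangeOK (Fn.rangeOK_step hm71_14 rfl
    (Fn.rangeOK_step hm71_13 rfl
    (Fn.rangeOK_step hm71_12 rfl
    (Fn.rangeOK_step hm71_11 rfl
    (Fn.rangeOK_step hm71_10 rfl
    (Fn.rangeOK_step hm71_9 rfl
    (Fn.rangeOK_step hm71_8 rfl
    (Fn.rangeOK_step hm71_7 rfl
    (Fn.rangeOK_step hm71_6 rfl
    (Fn.rangeOK_step hm71_5 rfl
    (Fn.rangeOK_step hm71_4 rfl
    (Fn.rangeOK_step hm71_3 rfl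
    (Fn.rangeOK_step hm71_2 rfl
    (Fn.rangeOK_step hm71_1 rfl
    (Fn.rangeOK_step hm71_0 rfl
    (Fn.rangeOK_start TT [4, 7, 4, 1, 6, 5, 0, 5, 6, 4, 1, 4, 7, 0, 5, 6, 5, 7] 1 tN))))))))))))))))

theorem hfix72 : ∀ i < tN, (Fn.applyW TT (([0, 6, 0, 2, 6, 4, 4, 1, 4, 0, 5, 5, 7, 3, 1, 7, 1, 2, 2] : List ℕ), 1).1)^[(([0, 6, 0, 2, 6, 4, 4, 1, 4, 0, 5, 5, 7, 3, 1, 7, 1, 2, 2] : List ℕ), 1).2] i = i :=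
  Fn.fix_of_rangeOK (Fn.rangeOK_step hm72_15 rfl
    (Fn.rangeOK_step hm72_14 rfl
    (Fn.rangeOK_step hm72_13 rfl
    (Fn.rangeOK_step hm72_12 rfl
    (Fn.rangeOK_step hm72_11 rfl
    (Fn.rangeOK_step hm72_10 rfl
    (Fn.rangeOK_step hm72_9 rfl
    (Fn.rangeOK_step hm72_8 rfl
    (Fn.rangeOK_step hm72_7 rfl
    (Fn.rangeOK_step hm72_6 rfl
    (Fn.rangeOK_step hm72_5 rfl
    (Fn.rangeOK_step hm72_4 rfl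
    (Fn.rangeOK_step hm72_3 rfl
    (Fn.rangeOK_step hm72_2 rfl
    (Fn.rangeOK_step hm72_1 rfl
    (Fn.rangeOK_step hm72_0 rfl
    (Fn.rangeOK_start TT [0, 6, 0, 2, 6, 4, 4, 1, 4, 0, 5, 5, 7, 3, 1, 7, 1, 2, 2] 1 tN)))))))))))))))))

theorem hfix73 : ∀ i < tN, (Fn.applyW TT (([6, 4, 1, 6, 4, 7, 1, 5, 6, 4, 0, 6, 5, 7, 0, 5, 7, 5, 5] : List ℕ), 1).1)^[(([6, 4, 1, 6, 4, 7, 1, 5, 6, 4, 0, 6, 5, 7, 0, 5, 7, 5, 5] : List ℕ), 1).2] i = i :=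
  Fn.fix_of_rangeOK (Fn.rangeOK_step hm73_15 rfl
    (Fn.rangeOK_step hm73_14 rfl
    (Fn.rangeOK_step hm73_13 rfl
    (Fn.rangeOK_step hm73_12 rfl
    (Fn.rangeOK_step hm73_11 rfl
    (Fn.rangeOK_step hm73_10 rfl
    (Fn.rangeOK_step hm73_9 rfl
    (Fn.rangeOK_step hm73_8 rfl
    (Fn.rangeOK_step hm73_7 rfl
    (Fn.rangeOK_step hm73_6 rfl
    (Fn.rangeOK_step hm73_5 rfl
    (Fn.rangeOK_step hm73_4 rfl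
    (Fn.rangeOK_step hm73_3 rfl
    (Fn.rangeOK_step hm73_2 rfl
    (Fn.rangeOK_step hm73_1 rfl
    (Fn.rangeOK_step hm73_0 rfl
    (Fn.rangeOK_start TT [6, 4, 1, 6, 4, 7, 1, 5, 6, 4, 0, 6, 5, 7, 0, 5, 7, 5, 5] 1 tN)))))))))))))))))

theorem hfix74 : ∀ i < tN, (Fn.applyW TT (([5, 0, 6, 2, 2, 4, 2, 5, 2, 4, 3, 5, 3, 3, 7, 1, 4, 3, 3] : List ℕ), 1).1)^[(([5, 0, 6, 2, 2, 4, 2, 5, 2, 4, 3, 5, 3, 3, 7, 1, 4, 3, 3] : List ℕ), 1).2] i = i :=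
  Fn.fix_of_rangeOK (Fn.rangeOK_step hm74_15 rfl
    (Fn.rangeOK_step hm74_14 rfl
    (Fn.rangeOK_step hm74_13 rfl
    (Fn.rangeOK_step hm74_12 rfl
    (Fn.rangeOK_step hm74_11 rfl
    (Fn.rangeOK_step hm74_10 rfl
    (Fn.rangeOK_step hm74_9 rfl
    (Fn.rangeOK_step hm74_8 rfl
    (Fn.rangeOK_step hm74_7 rfl
    (Fn.rangeOK_step hm74_6 rfl
    (Fn.rangeOK_step hm74_5 rfl
    (Fn.rangeOK_step hm74_4 rfl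
    (Fn.rangeOK_step hm74_3 rfl
    (Fn.rangeOK_step hm74_2 rfl
    (Fn.rangeOK_step hm74_1 rfl
    (Fn.rangeOK_step hm74_0 rfl
    (Fn.rangeOK_start TT [5, 0, 6, 2, 2, 4, 2, 5, 2, 4, 3, 5, 3, 3, 7, 1, 4, 3, 3] 1 tN)))))))))))))))))

theorem hfix75 : ∀ i < tN, (Fn.applyW TT (([2, 0, 5, 5, 6, 1, 3, 7, 0, 2, 1, 6, 2, 0, 7, 4, 4, 1, 3, 1] : List ℕ), 1).1)^[(([2, 0, 5, 5, 6, 1, 3, 7, 0, 2, 1, 6, 2, 0, 7, 4, 4, 1, 3, 1] : List ℕ), 1).2] i = i :=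
  Fn.fix_of_rangeOK (Fn.rangeOK_step hm75_16 rfl
    (Fn.rangeOK_step hm75_15 rfl
    (Fn.rangeOK_step hm75_14 rfl
    (Fn.rangeOK_step hm75_13 rfl
    (Fn.rangeOK_step hm75_12 rfl
    (Fn.rangeOK_step hm75_11 rfl
    (Fn.rangeOK_step hm75_10 rfl
    (Fn.rangeOK_step hm75_9 rfl
    (Fn.rangeOK_step hm75_8 rfl
    (Fn.rangeOK_step hm75_7 rfl
    (Fn.rangeOK_step hm75_6 rfl
    (Fn.rangeOK_step hm75_5 rfl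
    (Fn.rangeOK_step hm75_4 rfl
    (Fn.rangeOK_step hm75_3 rfl
    (Fn.rangeOK_step hm75_2 rfl
    (Fn.rangeOK_step hm75_1 rfl
    (Fn.rangeOK_step hm75_0 rfl
    (Fn.rangeOK_start TT [2, 0, 5, 5, 6, 1, 3, 7, 0, 2, 1, 6, 2, 0, 7, 4, 4, 1, 3, 1] 1 tN))))))))))))))))))

theorem hfix76 : ∀ i < tN, (Fn.applyW TT (([2, 1, 6, 0, 7, 2, 1, 6, 0, 6, 1, 7, 0, 3, 6, 1, 7, 0, 3, 7] : List ℕ), 1).1)^[(([2, 1, 6, 0, 7, 2, 1, 6, 0, 6, 1, 7, 0, 3, 6, 1, 7, 0, 3, 7] : List ℕ), 1).2] i = i :=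
  Fn.fix_of_rangeOK (Fn.rangeOK_step hm76_16 rfl
    (Fn.rangeOK_step hm76_15 rfl
    (Fn.rangeOK_step hm76_14 rfl
    (Fn.rangeOK_step hm76_13 rfl
    (Fn.rangeOK_step hm76_12 rfl
    (Fn.rangeOK_step hm76_11 rfl
    (Fn.rangeOK_step hm76_10 rfl
    (Fn.rangeOK_step hm76_9 rfl
    (Fn.rangeOK_step hm76_8 rfl
    (Fn.rangeOK_step hm76_7 rfl
    (Fn.rangeOK_step hm76_6 rfl
    (Fn.rangeOK_step hm76_5 rfl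
    (Fn.rangeOK_step hm76_4 rfl
    (Fn.rangeOK_step hm76_3 rfl
    (Fn.rangeOK_step hm76_2 rfl
    (Fn.rangeOK_step hm76_1 rfl
    (Fn.rangeOK_step hm76_0 rfl
    (Fn.rangeOK_start TT [2, 1, 6, 0, 7, 2, 1, 6, 0, 6, 1, 7, 0, 3, 6, 1, 7, 0, 3, 7] 1 tN))))))))))))))))))

theorem hfix77 : ∀ i < tN, (Fn.applyW TT (([2, 4, 7, 2, 6, 2, 4, 7, 2, 6, 3, 6, 5, 3, 7, 3, 6, 5, 3, 7] : List ℕ), 1).1)^[(([2, 4, 7, 2, 6, 2, 4, 7, 2, 6, 3, 6, 5, 3, 7, 3, 6, 5, 3, 7] : List ℕ), 1).2] i = i :=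
  Fn.fix_of_rangeOK (Fn.rangeOK_step hm77_16 rfl
    (Fn.rangeOK_step hm77_15 rfl
    (Fn.rangeOK_step hm77_14 rfl
    (Fn.rangeOK_step hm77_13 rfl
    (Fn.rangeOK_step hm77_12 rfl
    (Fn.rangeOK_step hm77_11 rfl
    (Fn.rangeOK_step hm77_10 rfl
    (Fn.rangeOK_step hm77_9 rfl
    (Fn.rangeOK_step hm77_8 rfl
    (Fn.rangeOK_step hm77_7 rfl
    (Fn.rangeOK_step hm77_6 rfl
    (Fn.rangeOK_step hm77_5 rfl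
    (Fn.rangeOK_step hm77_4 rfl
    (Fn.rangeOK_step hm77_3 rfl
    (Fn.rangeOK_step hm77_2 rfl
    (Fn.rangeOK_step hm77_1 rfl
    (Fn.rangeOK_step hm77_0 rfl
    (Fn.rangeOK_start TT [2, 4, 7, 2, 6, 2, 4, 7, 2, 6, 3, 6, 5, 3, 7, 3, 6, 5, 3, 7] 1 tN))))))))))))))))))

theorem hfix78 : ∀ i < tN, (Fn.applyW TT (([6, 5, 2, 0, 2, 2, 1, 6, 2, 4, 3, 7, 0, 3, 3, 1, 3, 4, 7, 0] : List ℕ), 1).1)^[(([6, 5, 2, 0, 2, 2, 1, 6, 2, 4, 3, 7, 0, 3, 3, 1, 3, 4, 7, 0] : List ℕ), 1).2] i = i :=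
  Fn.fix_of_rangeOK (Fn.rangeOK_step hm78_16 rfl
    (Fn.rangeOK_step hm78_15 rfl
    (Fn.rangeOK_step hm78_14 rfl
    (Fn.rangeOK_step hm78_13 rfl
    (Fn.rangeOK_step hm78_12 rfl
    (Fn.rangeOK_step hm78_11 rfl
    (Fn.rangeOK_step hm78_10 rfl
    (Fn.rangeOK_step hm78_9 rfl
    (Fn.rangeOK_step hm78_8 rfl
    (Fn.rangeOK_step hm78_7 rfl
    (Fn.rangeOK_step hm78_6 rfl
    (Fn.rangeOK_step hm78_5 rfl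
    (Fn.rangeOK_step hm78_4 rfl
    (Fn.rangeOK_step hm78_3 rfl
    (Fn.rangeOK_step hm78_2 rfl
    (Fn.rangeOK_step hm78_1 rfl
    (Fn.rangeOK_step hm78_0 rfl
    (Fn.rangeOK_start TT [6, 5, 2, 0, 2, 2, 1, 6, 2, 4, 3, 7, 0, 3, 3, 1, 3, 4, 7, 0] 1 tN))))))))))))))))))

theorem hfix79 : ∀ i < tN, (Fn.applyW TT (([2, 2, 1, 7, 0, 3, 6, 1, 5, 2, 4, 0, 7, 2, 1, 6, 0, 3, 3, 1] : List ℕ), 1).1)^[(([2, 2, 1, 7, 0, 3, 6, 1, 5, 2, 4, 0, 7, 2, 1, 6, 0, 3, 3, 1] : List ℕ), 1).2] i = i :=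
  Fn.fix_of_rangeOK (Fn.rangeOK_step hm79_16 rfl
    (Fn.rangeOK_step hm79_15 rfl
    (Fn.rangeOK_step hm79_14 rfl
    (Fn.rangeOK_step hm79_13 rfl
    (Fn.rangeOK_step hm79_12 rfl
    (Fn.rangeOK_step hm79_11 rfl
    (Fn.rangeOK_step hm79_10 rfl
    (Fn.rangeOK_step hm79_9 rfl
    (Fn.rangeOK_step hm79_8 rfl
    (Fn.rangeOK_step hm79_7 rfl
    (Fn.rangeOK_step hm79_6 rfl
    (Fn.rangeOK_step hm79_5 rfl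
    (Fn.rangeOK_step hm79_4 rfl
    (Fn.rangeOK_step hm79_3 rfl
    (Fn.rangeOK_step hm79_2 rfl
    (Fn.rangeOK_step hm79_1 rfl
    (Fn.rangeOK_step hm79_0 rfl
    (Fn.rangeOK_start TT [2, 2, 1, 7, 0, 3, 6, 1, 5, 2, 4, 0, 7, 2, 1, 6, 0, 3, 3, 1] 1 tN))))))))))))))))))

theorem hfix80 : ∀ i < tN, (Fn.applyW TT (([2, 1, 6, 2, 1, 1, 2, 4, 6, 0, 7, 5, 3, 0, 0, 3, 7, 0, 3, 5] : List ℕ), 1).1)^[(([2, 1, 6, 2, 1, 1, 2, 4, 6, 0, 7, 5, 3, 0, 0, 3, 7, 0, 3, 5] : List ℕ), 1).2] i = i :=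
  Fn.fix_of_rangeOK (Fn.rangeOK_step hm80_16 rfl
    (Fn.rangeOK_step hm80_15 rfl
    (Fn.rangeOK_step hm80_14 rfl
    (Fn.rangeOK_step hm80_13 rfl
    (Fn.rangeOK_step hm80_12 rfl
    (Fn.rangeOK_step hm80_11 rfl
    (Fn.rangeOK_step hm80_10 rfl
    (Fn.rangeOK_step hm80_9 rfl
    (Fn.rangeOK_step hm80_8 rfl
    (Fn.rangeOK_step hm80_7 rfl
    (Fn.rangeOK_step hm80_6 rfl
    (Fn.rangeOK_step hm80_5 rfl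
    (Fn.rangeOK_step hm80_4 rfl
    (Fn.rangeOK_step hm80_3 rfl
    (Fn.rangeOK_step hm80_2 rfl
    (Fn.rangeOK_step hm80_1 rfl
    (Fn.rangeOK_step hm80_0 rfl
    (Fn.rangeOK_start TT [2, 1, 6, 2, 1, 1, 2, 4, 6, 0, 7, 5, 3, 0, 0, 3, 7, 0, 3, 5] 1 tN))))))))))))))))))

theorem hfix81 : ∀ i < tN, (Fn.applyW TT (([9, 0, 5, 8, 1, 4, 0, 9, 4, 1, 8, 5] : List ℕ), 1).1)^[(([9, 0, 5, 8, 1, 4, 0, 9, 4, 1, 8, 5] : List ℕ), 1).2] i = i :=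
  Fn.fix_of_rangeOK (Fn.rangeOK_step hm81_9 rfl
    (Fn.rangeOK_step hm81_8 rfl
    (Fn.rangeOK_step hm81_7 rfl
    (Fn.rangeOK_step hm81_6 rfl
    (Fn.rangeOK_step hm81_5 rfl
    (Fn.rangeOK_step hm81_4 rfl
    (Fn.rangeOK_step hm81_3 rfl
    (Fn.rangeOK_step hm81_2 rfl
    (Fn.rangeOK_step hm81_1 rfl
    (Fn.rangeOK_step hm81_0 rfl
    (Fn.rangeOK_start TT [9, 0, 5, 8, 1, 4, 0, 9, 4, 1, 8, 5] 1 tN)))))))))))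

theorem hfix82 : ∀ i < tN, (Fn.applyW TT (([8, 1, 4, 9, 0, 4, 1, 8, 5, 0, 9, 5] : List ℕ), 1).1)^[(([8, 1, 4, 9, 0, 4, 1, 8, 5, 0, 9, 5] : List ℕ), 1).2] i = i :=
  Fn.fix_of_rangeOK (Fn.rangeOK_step hm82_9 rfl
    (Fn.rangeOK_step hm82_8 rfl
    (Fn.rangeOK_step hm82_7 rfl
    (Fn.rangeOK_step hm82_6 rfl
    (Fn.rangeOK_step hm82_5 rfl
    (Fn.rangeOK_step hm82_4 rfl
    (Fn.rangeOK_step hm82_3 rfl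
    (Fn.rangeOK_step hm82_2 rfl
    (Fn.rangeOK_step hm82_1 rfl
    (Fn.rangeOK_step hm82_0 rfl
    (Fn.rangeOK_start TT [8, 1, 4, 9, 0, 4, 1, 8, 5, 0, 9, 5] 1 tN)))))))))))

theorem hfix83 : ∀ i < tN, (Fn.applyW TT (([9, 4, 1, 8, 5, 0, 4, 9, 0, 5, 8, 1] : List ℕ), 1).1)^[(([9, 4, 1, 8, 5, 0, 4, 9, 0, 5, 8, 1] : List ℕ), 1).2] i = i :=
  Fn.fix_of_rangeOK (Fn.rangeOK_step hm83_9 rfl
    (Fn.rangeOK_step hm83_8 rfl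
    (Fn.rangeOK_step hm83_7 rfl
    (Fn.rangeOK_step hm83_6 rfl
    (Fn.rangeOK_step hm83_5 rfl
    (Fn.rangeOK_step hm83_4 rfl
    (Fn.rangeOK_step hm83_3 rfl
    (Fn.rangeOK_step hm83_2 rfl
    (Fn.rangeOK_step hm83_1 rfl
    (Fn.rangeOK_step hm83_0 rfl
    (Fn.rangeOK_start TT [9, 4, 1, 8, 5, 0, 4, 9, 0, 5, 8, 1] 1 tN)))))))))))

theorem hfix84 : ∀ i < tN, (Fn.applyW TT (([0, 5, 8, 1, 4, 8, 5, 0, 9, 4, 1, 9] : List ℕ), 1).1)^[(([0, 5, 8, 1, 4, 8, 5, 0, 9, 4, 1, 9] : List ℕ), 1).2] i = i :=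
  Fn.fix_of_rangeOK (Fn.rangeOK_step hm84_9 rfl
    (Fn.rangeOK_step hm84_8 rfl
    (Fn.rangeOK_step hm84_7 rfl
    (Fn.rangeOK_step hm84_6 rfl
    (Fn.rangeOK_step hm84_5 rfl
    (Fn.rangeOK_step hm84_4 rfl
    (Fn.rangeOK_step hm84_3 rfl
    (Fn.rangeOK_step hm84_2 rfl
    (Fn.rangeOK_step hm84_1 rfl
    (Fn.rangeOK_step hm84_0 rfl
    (Fn.rangeOK_start TT [0, 5, 8, 1, 4, 8, 5, 0, 9, 4, 1, 9] 1 tN)))))))))))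

theorem hfix85 : ∀ i < tN, (Fn.applyW TT (([8, 5, 0, 9, 4, 0, 5, 8, 1, 4, 9, 1] : List ℕ), 1).1)^[(([8, 5, 0, 9, 4, 0, 5, 8, 1, 4, 9, 1] : List ℕ), 1).2] i = i :=
  Fn.fix_of_rangeOK (Fn.rangeOK_step hm85_9 rfl
    (Fn.rangeOK_step hm85_8 rfl
    (Fn.rangeOK_step hm85_7 rfl
    (Fn.rangeOK_step hm85_6 rfl
    (Fn.rangeOK_step hm85_5 rfl
    (Fn.rangeOK_step hm85_4 rfl
    (Fn.rangeOK_step hm85_3 rfl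
    (Fn.rangeOK_step hm85_2 rfl
    (Fn.rangeOK_step hm85_1 rfl
    (Fn.rangeOK_step hm85_0 rfl
    (Fn.rangeOK_start TT [8, 5, 0, 9, 4, 0, 5, 8, 1, 4, 9, 1] 1 tN)))))))))))

theorem hfix86 : ∀ i < tN, (Fn.applyW TT (([6, 9, 6, 9, 6, 8, 7, 8, 7, 8, 7, 9] : List ℕ), 1).1)^[(([6, 9, 6, 9, 6, 8, 7, 8, 7, 8, 7, 9] : List ℕ), 1).2] i = i :=
  Fn.fix_of_rangeOK (Fn.rangeOK_step hm86_9 rfl
    (Fn.rangeOK_step hm86_8 rfl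
    (Fn.rangeOK_step hm86_7 rfl
    (Fn.rangeOK_step hm86_6 rfl
    (Fn.rangeOK_step hm86_5 rfl
    (Fn.rangeOK_step hm86_4 rfl
    (Fn.rangeOK_step hm86_3 rfl
    (Fn.rangeOK_step hm86_2 rfl
    (Fn.rangeOK_step hm86_1 rfl
    (Fn.rangeOK_step hm86_0 rfl
    (Fn.rangeOK_start TT [6, 9, 6, 9, 6, 8, 7, 8, 7, 8, 7, 9] 1 tN)))))))))))

theorem hfix87 : ∀ i < tN, (Fn.applyW TT (([8, 7, 8, 7, 8, 7, 4, 6, 9, 6, 9, 6, 9, 5] : List ℕ), 1).1)^[(([8, 7, 8, 7, 8, 7, 4, 6, 9, 6, 9, 6, 9, 5] : List ℕ), 1).2] i = i :=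
  Fn.fix_of_rangeOK (Fn.rangeOK_step hm87_11 rfl
    (Fn.rangeOK_step hm87_10 rfl
    (Fn.rangeOK_step hm87_9 rfl
    (Fn.rangeOK_step hm87_8 rfl
    (Fn.rangeOK_step hm87_7 rfl
    (Fn.rangeOK_step hm87_6 rfl
    (Fn.rangeOK_step hm87_5 rfl
    (Fn.rangeOK_step hm87_4 rfl
    (Fn.rangeOK_step hm87_3 rfl
    (Fn.rangeOK_step hm87_2 rfl
    (Fn.rangeOK_step hm87_1 rfl
    (Fn.rangeOK_step hm87_0 rfl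
    (Fn.rangeOK_start TT [8, 7, 8, 7, 8, 7, 4, 6, 9, 6, 9, 6, 9, 5] 1 tN)))))))))))))

theorem hfix88 : ∀ i < tN, (Fn.applyW TT (([5, 0, 7, 4, 1, 6, 8, 7, 0, 5, 6, 1, 4, 9] : List ℕ), 1).1)^[(([5, 0, 7, 4, 1, 6, 8, 7, 0, 5, 6, 1, 4, 9] : List ℕ), 1).2] i = i :=
  Fn.fix_of_rangeOK (Fn.rangeOK_step hm88_11 rfl
    (Fn.rangeOK_step hm88_10 rfl
    (Fn.rangeOK_step hm88_9 rfl
    (Fn.rangeOK_step hm88_8 rfl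
    (Fn.rangeOK_step hm88_7 rfl
    (Fn.rangeOK_step hm88_6 rfl
    (Fn.rangeOK_step hm88_5 rfl
    (Fn.rangeOK_step hm88_4 rfl
    (Fn.rangeOK_step hm88_3 rfl
    (Fn.rangeOK_step hm88_2 rfl
    (Fn.rangeOK_step hm88_1 rfl
    (Fn.rangeOK_step hm88_0 rfl
    (Fn.rangeOK_start TT [5, 0, 7, 4, 1, 6, 8, 7, 0, 5, 6, 1, 4, 9] 1 tN)))))))))))))

theorem hfix89 : ∀ i < tN, (Fn.applyW TT (([4, 1, 8, 5, 0, 9, 6, 8, 1, 4, 9, 0, 5, 7] : List ℕ), 1).1)^[(([4, 1, 8, 5, 0, 9, 6, 8, 1, 4, 9, 0, 5, 7] : List ℕ), 1).2] i = i :=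
  Fn.fix_of_rangeOK (Fn.rangeOK_step hm89_11 rfl
    (Fn.rangeOK_step hm89_10 rfl
    (Fn.rangeOK_step hm89_9 rfl
    (Fn.rangeOK_step hm89_8 rfl
    (Fn.rangeOK_step hm89_7 rfl
    (Fn.rangeOK_step hm89_6 rfl
    (Fn.rangeOK_step hm89_5 rfl
    (Fn.rangeOK_step hm89_4 rfl
    (Fn.rangeOK_step hm89_3 rfl
    (Fn.rangeOK_step hm89_2 rfl
    (Fn.rangeOK_step hm89_1 rfl
    (Fn.rangeOK_step hm89_0 rfl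
    (Fn.rangeOK_start TT [4, 1, 8, 5, 0, 9, 6, 8, 1, 4, 9, 0, 5, 7] 1 tN)))))))))))))

theorem hfix90 : ∀ i < tN, (Fn.applyW TT (([9, 6, 9, 0, 5, 5, 1, 2, 0, 4, 4, 1, 8, 7, 8, 5, 5] : List ℕ), 1).1)^[(([9, 6, 9, 0, 5, 5, 1, 2, 0, 4, 4, 1, 8, 7, 8, 5, 5] : List ℕ), 1).2] i = i :=
  Fn.fix_of_rangeOK (Fn.rangeOK_step hm90_13 rfl
    (Fn.rangeOK_step hm90_12 rfl
    (Fn.rangeOK_step hm90_11 rfl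
    (Fn.rangeOK_step hm90_10 rfl
    (Fn.rangeOK_step hm90_9 rfl
    (Fn.rangeOK_step hm90_8 rfl
    (Fn.rangeOK_step hm90_7 rfl
    (Fn.rangeOK_step hm90_6 rfl
    (Fn.rangeOK_step hm90_5 rfl
    (Fn.rangeOK_step hm90_4 rfl
    (Fn.rangeOK_step hm90_3 rfl
    (Fn.rangeOK_step hm90_2 rfl
    (Fn.rangeOK_step hm90_1 rfl
    (Fn.rangeOK_step hm90_0 rfl
    (Fn.rangeOK_start TT [9, 6, 9, 0, 5, 5, 1, 2, 0, 4, 4, 1, 8, 7, 8, 5, 5] 1 tN)))))))))))))))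

theorem hfix91 : ∀ i < tN, (Fn.applyW TT (([8, 7, 2, 1, 6, 9, 0, 3, 4, 2, 1, 8, 7, 0, 3, 6, 9, 5] : List ℕ), 1).1)^[(([8, 7, 2, 1, 6, 9, 0, 3, 4, 2, 1, 8, 7, 0, 3, 6, 9, 5] : List ℕ), 1).2] i = i :=
  Fn.fix_of_rangeOK (Fn.rangeOK_step hm91_14 rfl
    (Fn.rangeOK_step hm91_13 rfl
    (Fn.rangeOK_step hm91_12 rfl
    (Fn.rangeOK_step hm91_11 rfl
    (Fn.rangeOK_step hm91_10 rfl
    (Fn.rangeOK_step hm91_9 rfl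
    (Fn.rangeOK_step hm91_8 rfl
    (Fn.rangeOK_step hm91_7 rfl
    (Fn.rangeOK_step hm91_6 rfl
    (Fn.rangeOK_step hm91_5 rfl
    (Fn.rangeOK_step hm91_4 rfl
    (Fn.rangeOK_step hm91_3 rfl
    (Fn.rangeOK_step hm91_2 rfl
    (Fn.rangeOK_step hm91_1 rfl
    (Fn.rangeOK_step hm91_0 rfl
    (Fn.rangeOK_start TT [8, 7, 2, 1, 6, 9, 0, 3, 4, 2, 1, 8, 7, 0, 3, 6, 9, 5] 1 tN))))))))))))))))

theorem hfix92 : ∀ i < tN, (Fn.applyW TT (([0, 0, 3, 3, 0, 0, 3, 3, 8, 2, 2, 1, 1, 2, 2, 1, 1, 9] : List ℕ), 1).1)^[(([0, 0, 3, 3, 0, 0, 3, 3, 8, 2, 2, 1, 1, 2, 2, 1, 1, 9] : List ℕ), 1).2] i = i :=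
  Fn.fix_of_rangeOK (Fn.rangeOK_step hm92_14 rfl
    (Fn.rangeOK_step hm92_13 rfl
    (Fn.rangeOK_step hm92_12 rfl
    (Fn.rangeOK_step hm92_11 rfl
    (Fn.rangeOK_step hm92_10 rfl
    (Fn.rangeOK_step hm92_9 rfl
    (Fn.rangeOK_step hm92_8 rfl
    (Fn.rangeOK_step hm92_7 rfl
    (Fn.rangeOK_step hm92_6 rfl
    (Fn.rangeOK_step hm92_5 rfl
    (Fn.rangeOK_step hm92_4 rfl
    (Fn.rangeOK_step hm92_3 rfl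
    (Fn.rangeOK_step hm92_2 rfl
    (Fn.rangeOK_step hm92_1 rfl
    (Fn.rangeOK_step hm92_0 rfl
    (Fn.rangeOK_start TT [0, 0, 3, 3, 0, 0, 3, 3, 8, 2, 2, 1, 1, 2, 2, 1, 1, 9] 1 tN))))))))))))))))

theorem hfix93 : ∀ i < tN, (Fn.applyW TT (([7, 8, 2, 4, 9, 6, 5, 3, 0, 2, 4, 7, 8, 5, 3, 9, 6, 1] : List ℕ), 1).1)^[(([7, 8, 2, 4, 9, 6, 5, 3, 0, 2, 4, 7, 8, 5, 3, 9, 6, 1] : List ℕ), 1).2] i = i :=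
  Fn.fix_of_rangeOK (Fn.rangeOK_step hm93_14 rfl
    (Fn.rangeOK_step hm93_13 rfl
    (Fn.rangeOK_step hm93_12 rfl
    (Fn.rangeOK_step hm93_11 rfl
    (Fn.rangeOK_step hm93_10 rfl
    (Fn.rangeOK_step hm93_9 rfl
    (Fn.rangeOK_step hm93_8 rfl
    (Fn.rangeOK_step hm93_7 rfl
    (Fn.rangeOK_step hm93_6 rfl
    (Fn.rangeOK_step hm93_5 rfl
    (Fn.rangeOK_step hm93_4 rfl
    (Fn.rangeOK_step hm93_3 rfl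
    (Fn.rangeOK_step hm93_2 rfl
    (Fn.rangeOK_step hm93_1 rfl
    (Fn.rangeOK_step hm93_0 rfl
    (Fn.rangeOK_start TT [7, 8, 2, 4, 9, 6, 5, 3, 0, 2, 4, 7, 8, 5, 3, 9, 6, 1] 1 tN))))))))))))))))

theorem hfix94 : ∀ i < tN, (Fn.applyW TT (([7, 8, 2, 4, 9, 6, 5, 3, 4, 2, 4, 7, 8, 5, 3, 9, 6, 5] : List ℕ), 1).1)^[(([7, 8, 2, 4, 9, 6, 5, 3, 4, 2, 4, 7, 8, 5, 3, 9, 6, 5] : List ℕ), 1).2] i = i :=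
  Fn.fix_of_rangeOK (Fn.rangeOK_step hm94_14 rfl
    (Fn.rangeOK_step hm94_13 rfl
    (Fn.rangeOK_step hm94_12 rfl
    (Fn.rangeOK_step hm94_11 rfl
    (Fn.rangeOK_step hm94_10 rfl
    (Fn.rangeOK_step hm94_9 rfl
    (Fn.rangeOK_step hm94_8 rfl
    (Fn.rangeOK_step hm94_7 rfl
    (Fn.rangeOK_step hm94_6 rfl
    (Fn.rangeOK_step hm94_5 rfl
    (Fn.rangeOK_step hm94_4 rfl
    (Fn.rangeOK_step hm94_3 rfl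
    (Fn.rangeOK_step hm94_2 rfl
    (Fn.rangeOK_step hm94_1 rfl
    (Fn.rangeOK_step hm94_0 rfl
    (Fn.rangeOK_start TT [7, 8, 2, 4, 9, 6, 5, 3, 4, 2, 4, 7, 8, 5, 3, 9, 6, 5] 1 tN))))))))))))))))

theorem hfix95 : ∀ i < tN, (Fn.applyW TT (([7, 8, 2, 4, 9, 6, 5, 3, 8, 2, 4, 7, 8, 5, 3, 9, 6, 9] : List ℕ), 1).1)^[(([7, 8, 2, 4, 9, 6, 5, 3, 8, 2, 4, 7, 8, 5, 3, 9, 6, 9] : List ℕ), 1).2] i = i :=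
  Fn.fix_of_rangeOK (Fn.rangeOK_step hm95_14 rfl
    (Fn.rangeOK_step hm95_13 rfl
    (Fn.rangeOK_step hm95_12 rfl
    (Fn.rangeOK_step hm95_11 rfl
    (Fn.rangeOK_step hm95_10 rfl
    (Fn.rangeOK_step hm95_9 rfl
    (Fn.rangeOK_step hm95_8 rfl
    (Fn.rangeOK_step hm95_7 rfl
    (Fn.rangeOK_step hm95_6 rfl
    (Fn.rangeOK_step hm95_5 rfl
    (Fn.rangeOK_step hm95_4 rfl
    (Fn.rangeOK_step hm95_3 rfl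
    (Fn.rangeOK_step hm95_2 rfl
    (Fn.rangeOK_step hm95_1 rfl
    (Fn.rangeOK_step hm95_0 rfl
    (Fn.rangeOK_start TT [7, 8, 2, 4, 9, 6, 5, 3, 8, 2, 4, 7, 8, 5, 3, 9, 6, 9] 1 tN))))))))))))))))

theorem hfix96 : ∀ i < tN, (Fn.applyW TT (([5, 9, 6, 8, 8, 2, 4, 3, 8, 2, 5, 3, 9, 9, 7, 8, 4, 3] : List ℕ), 1).1)^[(([5, 9, 6, 8, 8, 2, 4, 3, 8, 2, 5, 3, 9, 9, 7, 8, 4, 3] : List ℕ), 1).2] i = i :=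
  Fn.fix_of_rangeOK (Fn.rangeOK_step hm96_14 rfl
    (Fn.rangeOK_step hm96_13 rfl
    (Fn.rangeOK_step hm96_12 rfl
    (Fn.rangeOK_step hm96_11 rfl
    (Fn.rangeOK_step hm96_10 rfl
    (Fn.rangeOK_step hm96_9 rfl
    (Fn.rangeOK_step hm96_8 rfl
    (Fn.rangeOK_step hm96_7 rfl
    (Fn.rangeOK_step hm96_6 rfl
    (Fn.rangeOK_step hm96_5 rfl
    (Fn.rangeOK_step hm96_4 rfl
    (Fn.rangeOK_step hm96_3 rfl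
    (Fn.rangeOK_step hm96_2 rfl
    (Fn.rangeOK_step hm96_1 rfl
    (Fn.rangeOK_step hm96_0 rfl
    (Fn.rangeOK_start TT [5, 9, 6, 8, 8, 2, 4, 3, 8, 2, 5, 3, 9, 9, 7, 8, 4, 3] 1 tN))))))))))))))))

theorem hfix97 : ∀ i < tN, (Fn.applyW TT (([2, 1, 6, 5, 0, 7, 4, 3, 8, 2, 5, 6, 1, 4, 7, 0, 3, 9] : List ℕ), 1).1)^[(([2, 1, 6, 5, 0, 7, 4, 3, 8, 2, 5, 6, 1, 4, 7, 0, 3, 9] : List ℕ), 1).2] i = i :=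
  Fn.fix_of_rangeOK (Fn.rangeOK_step hm97_14 rfl
    (Fn.rangeOK_step hm97_13 rfl
    (Fn.rangeOK_step hm97_12 rfl
    (Fn.rangeOK_step hm97_11 rfl
    (Fn.rangeOK_step hm97_10 rfl
    (Fn.rangeOK_step hm97_9 rfl
    (Fn.rangeOK_step hm97_8 rfl
    (Fn.rangeOK_step hm97_7 rfl
    (Fn.rangeOK_step hm97_6 rfl
    (Fn.rangeOK_step hm97_5 rfl
    (Fn.rangeOK_step hm97_4 rfl
    (Fn.rangeOK_step hm97_3 rfl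
    (Fn.rangeOK_step hm97_2 rfl
    (Fn.rangeOK_step hm97_1 rfl
    (Fn.rangeOK_step hm97_0 rfl
    (Fn.rangeOK_start TT [2, 1, 6, 5, 0, 7, 4, 3, 8, 2, 5, 6, 1, 4, 7, 0, 3, 9] 1 tN))))))))))))))))

theorem hfix98 : ∀ i < tN, (Fn.applyW TT (([6, 9, 2, 5, 8, 7, 4, 3, 8, 2, 5, 6, 9, 4, 3, 8, 7, 9] : List ℕ), 1).1)^[(([6, 9, 2, 5, 8, 7, 4, 3, 8, 2, 5, 6, 9, 4, 3, 8, 7, 9] : List ℕ), 1).2] i = i :=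
  Fn.fix_of_rangeOK (Fn.rangeOK_step hm98_14 rfl
    (Fn.rangeOK_step hm98_13 rfl
    (Fn.rangeOK_step hm98_12 rfl
    (Fn.rangeOK_step hm98_11 rfl
    (Fn.rangeOK_step hm98_10 rfl
    (Fn.rangeOK_step hm98_9 rfl
    (Fn.rangeOK_step hm98_8 rfl
    (Fn.rangeOK_step hm98_7 rfl
    (Fn.rangeOK_step hm98_6 rfl
    (Fn.rangeOK_step hm98_5 rfl
    (Fn.rangeOK_step hm98_4 rfl
    (Fn.rangeOK_step hm98_3 rfl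
    (Fn.rangeOK_step hm98_2 rfl
    (Fn.rangeOK_step hm98_1 rfl
    (Fn.rangeOK_step hm98_0 rfl
    (Fn.rangeOK_start TT [6, 9, 2, 5, 8, 7, 4, 3, 8, 2, 5, 6, 9, 4, 3, 8, 7, 9] 1 tN))))))))))))))))

theorem hfix99 : ∀ i < tN, (Fn.applyW TT (([8, 7, 2, 5, 6, 9, 4, 3, 0, 2, 5, 8, 7, 4, 3, 6, 9, 1] : List ℕ), 1).1)^[(([8, 7, 2, 5, 6, 9, 4, 3, 0, 2, 5, 8, 7, 4, 3, 6, 9, 1] : List ℕ), 1).2] i = i :=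
  Fn.fix_of_rangeOK (Fn.rangeOK_step hm99_14 rfl
    (Fn.rangeOK_step hm99_13 rfl
    (Fn.rangeOK_step hm99_12 rfl
    (Fn.rangeOK_step hm99_11 rfl
    (Fn.rangeOK_step hm99_10 rfl
    (Fn.rangeOK_step hm99_9 rfl
    (Fn.rangeOK_step hm99_8 rfl
    (Fn.rangeOK_step hm99_7 rfl
    (Fn.rangeOK_step hm99_6 rfl
    (Fn.rangeOK_step hm99_5 rfl
    (Fn.rangeOK_step hm99_4 rfl
    (Fn.rangeOK_step hm99_3 rfl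
    (Fn.rangeOK_step hm99_2 rfl
    (Fn.rangeOK_step hm99_1 rfl
    (Fn.rangeOK_step hm99_0 rfl
    (Fn.rangeOK_start TT [8, 7, 2, 5, 6, 9, 4, 3, 0, 2, 5, 8, 7, 4, 3, 6, 9, 1] 1 tN))))))))))))))))

theorem hfix100 : ∀ i < tN, (Fn.applyW TT (([8, 7, 2, 5, 6, 9, 4, 3, 4, 2, 5, 8, 7, 4, 3, 6, 9, 5] : List ℕ), 1).1)^[(([8, 7, 2, 5, 6, 9, 4, 3, 4, 2, 5, 8, 7, 4, 3, 6, 9, 5] : List ℕ), 1).2] i = i :=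
  Fn.fix_of_rangeOK (Fn.rangeOK_step hm100_14 rfl
    (Fn.rangeOK_step hm100_13 rfl
    (Fn.rangeOK_step hm100_12 rfl
    (Fn.rangeOK_step hm100_11 rfl
    (Fn.rangeOK_step hm100_10 rfl
    (Fn.rangeOK_step hm100_9 rfl
    (Fn.rangeOK_step hm100_8 rfl
    (Fn.rangeOK_step hm100_7 rfl
    (Fn.rangeOK_step hm100_6 rfl
    (Fn.rangeOK_step hm100_5 rfl
    (Fn.rangeOK_step hm100_4 rfl
    (Fn.rangeOK_step hm100_3 rfl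
    (Fn.rangeOK_step hm100_2 rfl
    (Fn.rangeOK_step hm100_1 rfl
    (Fn.rangeOK_step hm100_0 rfl
    (Fn.rangeOK_start TT [8, 7, 2, 5, 6, 9, 4, 3, 4, 2, 5, 8, 7, 4, 3, 6, 9, 5] 1 tN))))))))))))))))

theorem hfix101 : ∀ i < tN, (Fn.applyW TT (([2, 0, 5, 6, 1, 4, 7, 3, 8, 2, 6, 5, 0, 7, 4, 1, 3, 9] : List ℕ), 1).1)^[(([2, 0, 5, 6, 1, 4, 7, 3, 8, 2, 6, 5, 0, 7, 4, 1, 3, 9] : List ℕ), 1).2] i = i :=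
  Fn.fix_of_rangeOK (Fn.rangeOK_step hm101_14 rfl
    (Fn.rangeOK_step hm101_13 rfl
    (Fn.rangeOK_step hm101_12 rfl
    (Fn.rangeOK_step hm101_11 rfl
    (Fn.rangeOK_step hm101_10 rfl
    (Fn.rangeOK_step hm101_9 rfl
    (Fn.rangeOK_step hm101_8 rfl
    (Fn.rangeOK_step hm101_7 rfl
    (Fn.rangeOK_step hm101_6 rfl
    (Fn.rangeOK_step hm101_5 rfl
    (Fn.rangeOK_step hm101_4 rfl
    (Fn.rangeOK_step hm101_3 rfl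
    (Fn.rangeOK_step hm101_2 rfl
    (Fn.rangeOK_step hm101_1 rfl
    (Fn.rangeOK_step hm101_0 rfl
    (Fn.rangeOK_start TT [2, 0, 5, 6, 1, 4, 7, 3, 8, 2, 6, 5, 0, 7, 4, 1, 3, 9] 1 tN))))))))))))))))

theorem hfix102 : ∀ i < tN, (Fn.applyW TT (([7, 8, 7, 2, 7, 8, 7, 3, 0, 2, 6, 9, 6, 3, 6, 9, 6, 3] : List ℕ), 1).1)^[(([7, 8, 7, 2, 7, 8, 7, 3, 0, 2, 6, 9, 6, 3, 6, 9, 6, 3] : List ℕ), 1).2] i = i :=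
  Fn.fix_of_rangeOK (Fn.rangeOK_step hm102_14 rfl
    (Fn.rangeOK_step hm102_13 rfl
    (Fn.rangeOK_step hm102_12 rfl
    (Fn.rangeOK_step hm102_11 rfl
    (Fn.rangeOK_step hm102_10 rfl
    (Fn.rangeOK_step hm102_9 rfl
    (Fn.rangeOK_step hm102_8 rfl
    (Fn.rangeOK_step hm102_7 rfl
    (Fn.rangeOK_step hm102_6 rfl
    (Fn.rangeOK_step hm102_5 rfl
    (Fn.rangeOK_step hm102_4 rfl
    (Fn.rangeOK_step hm102_3 rfl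
    (Fn.rangeOK_step hm102_2 rfl
    (Fn.rangeOK_step hm102_1 rfl
    (Fn.rangeOK_step hm102_0 rfl
    (Fn.rangeOK_start TT [7, 8, 7, 2, 7, 8, 7, 3, 0, 2, 6, 9, 6, 3, 6, 9, 6, 3] 1 tN))))))))))))))))

theorem hfix103 : ∀ i < tN, (Fn.applyW TT (([2, 8, 7, 8, 7, 8, 7, 3, 0, 2, 6, 9, 6, 9, 6, 9, 3, 1] : List ℕ), 1).1)^[(([2, 8, 7, 8, 7, 8, 7, 3, 0, 2, 6, 9, 6, 9, 6, 9, 3, 1] : List ℕ), 1).2] i = i :=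
  Fn.fix_of_rangeOK (Fn.rangeOK_step hm103_14 rfl
    (Fn.rangeOK_step hm103_13 rfl
    (Fn.rangeOK_step hm103_12 rfl
    (Fn.rangeOK_step hm103_11 rfl
    (Fn.rangeOK_step hm103_10 rfl
    (Fn.rangeOK_step hm103_9 rfl
    (Fn.rangeOK_step hm103_8 rfl
    (Fn.rangeOK_step hm103_7 rfl
    (Fn.rangeOK_step hm103_6 rfl
    (Fn.rangeOK_step hm103_5 rfl
    (Fn.rangeOK_step hm103_4 rfl
    (Fn.rangeOK_step hm103_3 rfl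
    (Fn.rangeOK_step hm103_2 rfl
    (Fn.rangeOK_step hm103_1 rfl
    (Fn.rangeOK_step hm103_0 rfl
    (Fn.rangeOK_start TT [2, 8, 7, 8, 7, 8, 7, 3, 0, 2, 6, 9, 6, 9, 6, 9, 3, 1] 1 tN))))))))))))))))

theorem hfix104 : ∀ i < tN, (Fn.applyW TT (([2, 8, 7, 8, 7, 8, 7, 3, 4, 2, 6, 9, 6, 9, 6, 9, 3, 5] : List ℕ), 1).1)^[(([2, 8, 7, 8, 7, 8, 7, 3, 4, 2, 6, 9, 6, 9, 6, 9, 3, 5] : List ℕ), 1).2] i = i :=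
  Fn.fix_of_rangeOK (Fn.rangeOK_step hm104_14 rfl
    (Fn.rangeOK_step hm104_13 rfl
    (Fn.rangeOK_step hm104_12 rfl
    (Fn.rangeOK_step hm104_11 rfl
    (Fn.rangeOK_step hm104_10 rfl
    (Fn.rangeOK_step hm104_9 rfl
    (Fn.rangeOK_step hm104_8 rfl
    (Fn.rangeOK_step hm104_7 rfl
    (Fn.rangeOK_step hm104_6 rfl
    (Fn.rangeOK_step hm104_5 rfl
    (Fn.rangeOK_step hm104_4 rfl
    (Fn.rangeOK_step hm104_3 rfl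
    (Fn.rangeOK_step hm104_2 rfl
    (Fn.rangeOK_step hm104_1 rfl
    (Fn.rangeOK_step hm104_0 rfl
    (Fn.rangeOK_start TT [2, 8, 7, 8, 7, 8, 7, 3, 4, 2, 6, 9, 6, 9, 6, 9, 3, 5] 1 tN))))))))))))))))

theorem hfix105 : ∀ i < tN, (Fn.applyW TT (([2, 8, 7, 8, 7, 8, 7, 3, 6, 2, 6, 9, 6, 9, 6, 9, 3, 7] : List ℕ), 1).1)^[(([2, 8, 7, 8, 7, 8, 7, 3, 6, 2, 6, 9, 6, 9, 6, 9, 3, 7] : List ℕ), 1).2] i = i :=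
  Fn.fix_of_rangeOK (Fn.rangeOK_step hm105_14 rfl
    (Fn.rangeOK_step hm105_13 rfl
    (Fn.rangeOK_step hm105_12 rfl
    (Fn.rangeOK_step hm105_11 rfl
    (Fn.rangeOK_step hm105_10 rfl
    (Fn.rangeOK_step hm105_9 rfl
    (Fn.rangeOK_step hm105_8 rfl
    (Fn.rangeOK_step hm105_7 rfl
    (Fn.rangeOK_step hm105_6 rfl
    (Fn.rangeOK_step hm105_5 rfl
    (Fn.rangeOK_step hm105_4 rfl
    (Fn.rangeOK_step hm105_3 rfl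
    (Fn.rangeOK_step hm105_2 rfl
    (Fn.rangeOK_step hm105_1 rfl
    (Fn.rangeOK_step hm105_0 rfl
    (Fn.rangeOK_start TT [2, 8, 7, 8, 7, 8, 7, 3, 6, 2, 6, 9, 6, 9, 6, 9, 3, 7] 1 tN))))))))))))))))

theorem hfix106 : ∀ i < tN, (Fn.applyW TT (([0, 1] : List ℕ), 1).1)^[(([0, 1] : List ℕ), 1).2] i = i :=
  Fn.fix_of_rangeOK (Fn.rangeOK_step hm106_1 rfl
    (Fn.rangeOK_step hm106_0 rfl
    (Fn.rangeOK_start TT [0, 1] 1 tN)))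

theorem hfix107 : ∀ i < tN, (Fn.applyW TT (([1, 0] : List ℕ), 1).1)^[(([1, 0] : List ℕ), 1).2] i = i :=
  Fn.fix_of_rangeOK (Fn.rangeOK_step hm107_1 rfl
    (Fn.rangeOK_step hm107_0 rfl
    (Fn.rangeOK_start TT [1, 0] 1 tN)))

theorem hfix108 : ∀ i < tN, (Fn.applyW TT (([2, 3] : List ℕ), 1).1)^[(([2, 3] : List ℕ), 1).2] i = i :=
  Fn.fix_of_rangeOK (Fn.rangeOK_step hm108_1 rfl
    (Fn.rangeOK_step hm108_0 rfl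
    (Fn.rangeOK_start TT [2, 3] 1 tN)))

theorem hfix109 : ∀ i < tN, (Fn.applyW TT (([3, 2] : List ℕ), 1).1)^[(([3, 2] : List ℕ), 1).2] i = i :=
  Fn.fix_of_rangeOK (Fn.rangeOK_step hm109_1 rfl
    (Fn.rangeOK_step hm109_0 rfl
    (Fn.rangeOK_start TT [3, 2] 1 tN)))

theorem hfix110 : ∀ i < tN, (Fn.applyW TT (([4, 5] : List ℕ), 1).1)^[(([4, 5] : List ℕ), 1).2] i = i :=
  Fn.fix_of_rangeOK (Fn.rangeOK_step hm110_1 rfl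
    (Fn.rangeOK_step hm110_0 rfl
    (Fn.rangeOK_start TT [4, 5] 1 tN)))

theorem hfix111 : ∀ i < tN, (Fn.applyW TT (([5, 4] : List ℕ), 1).1)^[(([5, 4] : List ℕ), 1).2] i = i :=
  Fn.fix_of_rangeOK (Fn.rangeOK_step hm111_1 rfl
    (Fn.rangeOK_step hm111_0 rfl
    (Fn.rangeOK_start TT [5, 4] 1 tN)))

theorem hfix112 : ∀ i < tN, (Fn.applyW TT (([6, 7] : List ℕ), 1).1)^[(([6, 7] : List ℕ), 1).2] i = i :=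
  Fn.fix_of_rangeOK (Fn.rangeOK_step hm112_1 rfl
    (Fn.rangeOK_step hm112_0 rfl
    (Fn.rangeOK_start TT [6, 7] 1 tN)))

theorem hfix113 : ∀ i < tN, (Fn.applyW TT (([7, 6] : List ℕ), 1).1)^[(([7, 6] : List ℕ), 1).2] i = i :=
  Fn.fix_of_rangeOK (Fn.rangeOK_step hm113_1 rfl
    (Fn.rangeOK_step hm113_0 rfl
    (Fn.rangeOK_start TT [7, 6] 1 tN)))

theorem hfix114 : ∀ i < tN, (Fn.applyW TT (([8, 9] : List ℕ), 1).1)^[(([8, 9] : List ℕ), 1).2] i = i :=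
  Fn.fix_of_rangeOK (Fn.rangeOK_step hm114_1 rfl
    (Fn.rangeOK_step hm114_0 rfl
    (Fn.rangeOK_start TT [8, 9] 1 tN)))

theorem hfix115 : ∀ i < tN, (Fn.applyW TT (([9, 8] : List ℕ), 1).1)^[(([9, 8] : List ℕ), 1).2] i = i :=
  Fn.fix_of_rangeOK (Fn.rangeOK_step hm115_1 rfl
    (Fn.rangeOK_step hm115_0 rfl
    (Fn.rangeOK_start TT [9, 8] 1 tN)))

theorem hfixall : Fn.FixAll TT tN specs :=
  Fn.fixAll_cons (Fn.fix_of_marksK hm0)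
    (Fn.fixAll_cons (Fn.fix_of_marksK hm1)
    (Fn.fixAll_cons (Fn.fix_of_marksK hm2)
    (Fn.fixAll_cons (Fn.fix_of_marksK hm3)
    (Fn.fixAll_cons (Fn.fix_of_marksK hm4)
    (Fn.fixAll_cons hfix5
    (Fn.fixAll_cons hfix6
    (Fn.fixAll_cons hfix7
    (Fn.fixAll_cons hfix8
    (Fn.fixAll_cons hfix9
    (Fn.fixAll_cons hfix10
    (Fn.fixAll_cons hfix11
    (Fn.fixAll_cons hfix12
    (Fn.fixAll_cons hfix13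
    (Fn.fixAll_cons hfix14
    (Fn.fixAll_cons hfix15
    (Fn.fixAll_cons hfix16
    (Fn.fixAll_cons hfix17
    (Fn.fixAll_cons hfix18
    (Fn.fixAll_cons hfix19
    (Fn.fixAll_cons hfix20
    (Fn.fixAll_cons hfix21
    (Fn.fixAll_cons hfix22
    (Fn.fixAll_cons hfix23
    (Fn.fixAll_cons hfix24
    (Fn.fixAll_cons hfix25
    (Fn.fixAll_cons hfix26
    (Fn.fixAll_cons hfix27
    (Fn.fixAll_cons hfix28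
    (Fn.fixAll_cons hfix29
    (Fn.fixAll_cons hfix30
    (Fn.fixAll_cons hfix31
    (Fn.fixAll_cons hfix32
    (Fn.fixAll_cons hfix33
    (Fn.fixAll_cons hfix34
    (Fn.fixAll_cons hfix35
    (Fn.fixAll_cons hfix36
    (Fn.fixAll_cons hfix37
    (Fn.fixAll_cons hfix38
    (Fn.fixAll_cons hfix39
    (Fn.fixAll_cons hfix40
    (Fn.fixAll_cons hfix41
    (Fn.fixAll_cons hfix42
    (Fn.fixAll_cons hfix43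
    (Fn.fixAll_cons hfix44
    (Fn.fixAll_cons hfix45
    (Fn.fixAll_cons hfix46
    (Fn.fixAll_cons hfix47
    (Fn.fixAll_cons hfix48
    (Fn.fixAll_cons hfix49
    (Fn.fixAll_cons hfix50
    (Fn.fixAll_cons hfix51
    (Fn.fixAll_cons hfix52
    (Fn.fixAll_cons hfix53
    (Fn.fixAll_cons hfix54
    (Fn.fixAll_cons hfix55
    (Fn.fixAll_cons hfix56
    (Fn.fixAll_cons hfix57
    (Fn.fixAll_cons hfix58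
    (Fn.fixAll_cons hfix59
    (Fn.fixAll_cons hfix60
    (Fn.fixAll_cons hfix61
    (Fn.fixAll_cons hfix62
    (Fn.fixAll_cons hfix63
    (Fn.fixAll_cons hfix64
    (Fn.fixAll_cons hfix65
    (Fn.fixAll_cons hfix66
    (Fn.fixAll_cons hfix67
    (Fn.fixAll_cons hfix68
    (Fn.fixAll_cons hfix69
    (Fn.fixAll_cons hfix70
    (Fn.fixAll_cons hfix71
    (Fn.fixAll_cons hfix72
    (Fn.fixAll_cons hfix73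
    (Fn.fixAll_cons hfix74
    (Fn.fixAll_cons hfix75
    (Fn.fixAll_cons hfix76
    (Fn.fixAll_cons hfix77
    (Fn.fixAll_cons hfix78
    (Fn.fixAll_cons hfix79
    (Fn.fixAll_cons hfix80
    (Fn.fixAll_cons hfix81
    (Fn.fixAll_cons hfix82
    (Fn.fixAll_cons hfix83
    (Fn.fixAll_cons hfix84
    (Fn.fixAll_cons hfix85
    (Fn.fixAll_cons hfix86
    (Fn.fixAll_cons hfix87
    (Fn.fixAll_cons hfix88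
    (Fn.fixAll_cons hfix89
    (Fn.fixAll_cons hfix90
    (Fn.fixAll_cons hfix91
    (Fn.fixAll_cons hfix92
    (Fn.fixAll_cons hfix93
    (Fn.fixAll_cons hfix94
    (Fn.fixAll_cons hfix95
    (Fn.fixAll_cons hfix96
    (Fn.fixAll_cons hfix97
    (Fn.fixAll_cons hfix98
    (Fn.fixAll_cons hfix99
    (Fn.fixAll_cons hfix100
    (Fn.fixAll_cons hfix101
    (Fn.fixAll_cons hfix102
    (Fn.fixAll_cons hfix103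
    (Fn.fixAll_cons hfix104
    (Fn.fixAll_cons hfix105
    (Fn.fixAll_cons hfix106
    (Fn.fixAll_cons hfix107
    (Fn.fixAll_cons hfix108
    (Fn.fixAll_cons hfix109
    (Fn.fixAll_cons hfix110
    (Fn.fixAll_cons hfix111
    (Fn.fixAll_cons hfix112
    (Fn.fixAll_cons hfix113
    (Fn.fixAll_cons hfix114
    (Fn.fixAll_cons hfix115
    (Fn.fixAll_cons (Fn.fix_of_marksK hm116)
    (Fn.fixAll_nil TT tN)))))))))))))))))))))))))))))))))))))))))))))))))))))))))))))))))))))))))))))))))))))))))))))))))))))))))))))))))))))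

theorem hrels : Fn.relsK TT cN baseL = true := by
  rw [hspecs]
  exact Fn.relsK_of_fixAll hfixall

end Cfsg.Agent.Lib.Helper12.TCG.SuzQe65520
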